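import Groth.Agent.CartExt.Cartier
import Groth.Agent.VanLoc.Main
import Groth.Agent.PPSheaf.Gr
import Groth.Agent.QCoh.FT
import Groth.Agent.QCoh.FlatOver

/-!
# Vanishing of `J → O/K` after base change
-/

set_option autoImplicit false
universe u

open CategoryTheory CategoryTheory.Limits AlgebraicGeometry TopologicalSpace Opposite

namespace Groth.Agent.CartExt

variable {P : Scheme.{u}} (J K : P.IdealSheafData)

/-- The map `J → O/K`. -/
noncomputable def toQuot : ClSub.idealMod J ⟶ ClSub.quotMod K :=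
  ClSub.idealModι J ≫ ClSub.toSubscheme K

/-- The projection `O(U) → (O/K)(U)`. -/
noncomputable def quotLin (U : P.Opens) : Γ(P, U) →ₗ[Γ(P, U)] Γ(ClSub.quotMod K, U) where
  toFun b := K.subschemeι.app U b
  map_add' := map_add (K.subschemeι.app U).hom
  map_smul' r b := map_mul (K.subschemeι.app U).hom r b

theorem quotLin_surjective (U : P.affineOpens) : Function.Surjective (quotLin K U.1) :=
  K.subschemeι_app_surjective U

theorem ker_quotLin (U : P.affineOpens) : LinearMap.ker (quotLin K U.1) = K.ideal U := by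
  rw [← K.ker_subschemeι_app U]; rfl

theorem toQuot_app (U : P.affineOpens) (k : J.ideal U) :
    (toQuot J K).app U.1 (PPSheaf.idealEquiv J U k) = quotLin K U.1 k.1 := by
  rw [← PPSheaf.idealSect_idealEquiv J U k]
  rfl

theorem pullSec_quotLin_eq_zero_iff {P' : Scheme.{u}} (φ : P' ⟶ P) (U : P.affineOpens) (W' : P'.affineOpens)
    (h : W'.1 ≤ φ ⁻¹ᵁ U.1) (b : Γ(P, U.1)) :
    QCoh.pullSec φ (ClSub.quotMod K) h (quotLin K U.1 b) = 0 ↔
      φ.appLE U.1 W'.1 h b ∈ (K.ideal U).map (φ.appLE U.1 W'.1 h).hom := by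
  let N := (Scheme.Modules.pullback φ).obj (ClSub.quotMod K)
  letI := (φ.appLE U.1 W'.1 h).hom.toAlgebra
  letI : Module Γ(P, U.1) Γ(N, W'.1) := Module.compHom _ (φ.appLE U.1 W'.1 h).hom
  haveI : IsScalarTower Γ(P, U.1) Γ(P', W'.1) Γ(N, W'.1) := .of_algebraMap_smul fun _ _ => rfl
  let l : Γ(ClSub.quotMod K, U.1) →ₗ[Γ(P, U.1)] Γ(N, W'.1) :=
    { toFun := QCoh.pullSec φ _ h
      map_add' := QCoh.pullSec_add φ _ h
      map_smul' := fun r x => QCoh.pullSec_smul φ _ h r x }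
  constructor
  · intro h0
    have hl : IsBaseChange Γ(P', W'.1) l := QCoh.isBaseChange_pullback U.2 φ W'.2
      (QCoh.isQCoh_pushforward K.subschemeι QCoh.isQCoh_structureModule) h (fun _ => rfl) l fun _ => rfl
    let M := (K.ideal U).map (φ.appLE U.1 W'.1 h).hom
    let g₀ : (Γ(P, U.1) ⧸ LinearMap.ker (quotLin K U.1)) →ₗ[Γ(P, U.1)] (Γ(P', W'.1) ⧸ M) :=
      Submodule.liftQ _ ((Submodule.mkQ M).restrictScalars Γ(P, U.1) ∘ₗ Algebra.linearMap Γ(P, U.1) Γ(P', W'.1))
        (by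
          rw [ker_quotLin K U]
          exact fun x hx => (Submodule.Quotient.mk_eq_zero M).2 (Ideal.mem_map_of_mem _ hx))
    let g : Γ(ClSub.quotMod K, U.1) →ₗ[Γ(P, U.1)] (Γ(P', W'.1) ⧸ M) :=
      g₀ ∘ₗ ((quotLin K U.1).quotKerEquivOfSurjective (quotLin_surjective K U)).symm.toLinearMap
    have h1 : g (quotLin K U.1 b) = Submodule.Quotient.mk (φ.appLE U.1 W'.1 h b) := by
      show g₀ (((quotLin K U.1).quotKerEquivOfSurjective _).symm (quotLin K U.1 b)) = _
      rw [show ((quotLin K U.1).quotKerEquivOfSurjective (quotLin_surjective K U)).symm (quotLin K U.1 b) =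
        Submodule.Quotient.mk b from (LinearEquiv.symm_apply_eq _).2 rfl]
      rfl
    rw [← Submodule.Quotient.mk_eq_zero M, ← h1, ← hl.lift_eq g]
    rw [show l (quotLin K U.1 b) = 0 from h0, map_zero]
  · intro hb
    have key : ∀ c ∈ (K.ideal U).map (φ.appLE U.1 W'.1 h).hom, c • l (quotLin K U.1 1) = 0 := by
      intro c hc
      induction hc using Submodule.span_induction with
      | mem x hx =>
        obtain ⟨k, hk, rfl⟩ := hx
        show k • l (quotLin K U.1 1) = 0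
        rw [← map_smul, ← map_smul, smul_eq_mul, mul_one,
          show quotLin K U.1 k = 0 from (ker_quotLin K U).ge hk, map_zero]
      | zero => exact zero_smul _ _
      | add x y _ _ hx hy => rw [add_smul, hx, hy, add_zero]
      | smul a x _ hx => rw [smul_eq_mul, mul_smul, hx, smul_zero]
    show l (quotLin K U.1 b) = 0
    rw [show quotLin K U.1 b = b • quotLin K U.1 1 by rw [← map_smul, smul_eq_mul, mul_one], map_smul]
    exact key _ hb

theorem van_toQuot_iff {P' : Scheme.{u}} (φ : P' ⟶ P) {ι : Type*} (W : ι → P.affineOpens)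
    (hW : ∀ x : P, ∃ i, x ∈ (W i).1) :
    VanLoc.Van (toQuot J K) φ ↔ ∀ (i : ι) (W' : P'.affineOpens) (h : W'.1 ≤ φ ⁻¹ᵁ (W i).1),
      ∀ b ∈ J.ideal (W i), φ.appLE (W i).1 W'.1 h b ∈ (K.ideal (W i)).map (φ.appLE (W i).1 W'.1 h).hom := by
  constructor
  · intro hv i W' h b hb
    rw [← pullSec_quotLin_eq_zero_iff K φ (W i) W' h, ← toQuot_app J K (W i) ⟨b, hb⟩]
    exact hv.pullSec_eq_zero _ h _
  · intro H
    refine VanLoc.van_of_local _ φ (PPSheaf.isQCoh_idealMod J) fun w => ?_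
    obtain ⟨i, hi⟩ := hW (φ w)
    obtain ⟨W', hW', hwW', hle⟩ := exists_isAffineOpen_mem_and_subset (X := P') (x := w) (U := φ ⁻¹ᵁ (W i).1) hi
    refine ⟨W', (W i).1, hle, hwW', (W i).2, fun x => ?_⟩
    obtain ⟨k, rfl⟩ := (PPSheaf.idealEquiv J (W i)).surjective x
    rw [toQuot_app, pullSec_quotLin_eq_zero_iff K φ (W i) ⟨W', hW'⟩ hle]
    exact H i ⟨W', hW'⟩ hle k.1 k.2

variable {I : P.IdealSheafData}

theorem ideal_pow_good (g : GoodAff I) (n : ℕ) : (I ^ n).ideal g.W = Ideal.span {g.t ^ n} := by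
  rw [Scheme.IdealSheafData.ideal_pow, Pi.pow_apply, g.ideal_eq, Ideal.span_singleton_pow]

theorem isFP_quotMod_pow (hI : BlowUp.IsEffCartierIdeal I) (n : ℕ) : CohB1.IsFP (ClSub.quotMod (I ^ n)) := by
  choose g hg using fun x : P => exists_good_le hI ⊤ x (Opens.mem_top x)
  refine QCoh.isFP_of_finitePresentation (QCoh.isQCoh_pushforward _ QCoh.isQCoh_structureModule)
    (fun x => (g x).W.1) (top_le_iff.1 fun x _ => Opens.mem_iSup.2 ⟨x, (hg x).1⟩) (fun x => (g x).W.2) fun x => ?_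
  refine Module.finitePresentation_of_surjective (quotLin _ _) (quotLin_surjective (I ^ n) (g x).W) ?_
  rw [ker_quotLin, ideal_pow_good]
  exact Submodule.fg_span_singleton _

theorem isFlatOver_quotMod_pow {S : Scheme.{u}} (f : P ⟶ S) (hI : BlowUp.IsEffCartierIdeal I)
    [Flat (I.subschemeι ≫ f)] (n : ℕ) : FlatMod.IsFlatOver f (ClSub.quotMod (I ^ n)) := by
  intro x
  obtain ⟨V, hV, hxV, -⟩ := exists_isAffineOpen_mem_and_subset (X := S) (x := f x) (U := ⊤) trivial
  obtain ⟨g, hxg, hle⟩ := exists_good_le hI (f ⁻¹ᵁ V) x hxV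
  refine (QCoh.flat_appLE_iff f (QCoh.isQCoh_pushforward _ QCoh.isQCoh_structureModule) g.W.2 hV hle).1 ?_ x hxg
  letI := (f.appLE V g.W.1 hle).hom.toAlgebra
  letI : Module Γ(S, V) Γ(ClSub.quotMod (I ^ n), g.W.1) := Module.compHom _ (f.appLE V g.W.1 hle).hom
  haveI : IsScalarTower Γ(S, V) Γ(P, g.W.1) Γ(ClSub.quotMod (I ^ n), g.W.1) := .of_algebraMap_smul fun _ _ => rfl
  letI : Module Γ(S, V) Γ(ClSub.quotMod I, g.W.1) := Module.compHom _ (f.appLE V g.W.1 hle).hom
  haveI : IsScalarTower Γ(S, V) Γ(P, g.W.1) Γ(ClSub.quotMod I, g.W.1) := .of_algebraMap_smul fun _ _ => rfl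
  haveI h1 : Module.Flat Γ(S, V) Γ(ClSub.quotMod I, g.W.1) := by
    have h := HasRingHomProperty.appLE @Flat (I.subschemeι ≫ f) inferInstance ⟨V, hV⟩
      ⟨I.subschemeι ⁻¹ᵁ g.W.1, g.W.2.preimage I.subschemeι⟩ (fun y hy => hle hy)
    rw [show (I.subschemeι ≫ f).appLE V (I.subschemeι ⁻¹ᵁ g.W.1) (fun y hy => hle hy) =
      f.appLE V g.W.1 hle ≫ I.subschemeι.app g.W.1 by
        rw [Scheme.Hom.app_eq_appLE, Scheme.Hom.appLE_comp_appLE]] at h
    exact h
  haveI : Module.Flat Γ(S, V) (Γ(P, g.W.1) ⧸ Ideal.span {g.t}) :=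
    Module.Flat.of_linearEquiv (quotEquiv (quotLin I g.W.1) (quotLin_surjective I g.W)
      ((ker_quotLin I g.W).trans g.ideal_eq))
  haveI := flat_quot_pow (A := Γ(S, V)) g.t g.nzd n
  exact Module.Flat.of_linearEquiv (quotEquiv (quotLin (I ^ n) g.W.1) (quotLin_surjective (I ^ n) g.W)
    ((ker_quotLin (I ^ n) g.W).trans (ideal_pow_good g n))).symm

end Groth.Agent.CartExt
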