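import Groth.Agent.DivX.CodimOne

/-! Effective Cartier divisors extend across points with factorial local rings. -/

set_option autoImplicit false
set_option linter.style.haveILetI false
set_option backward.isDefEq.respectTransparency.types false

universe u

open CategoryTheory AlgebraicGeometry TopologicalSpace Opposite

namespace Groth.Agent.CartExt

/-- An intersection of saturated, generically locally principal ideals in a factorial ring is principal. -/
theorem exists_span_eq_iInf {A : Type u} [CommRing A] [IsDomain A] [UniqueFactorizationMonoid A]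
    {ι : Type*} [Fintype ι] (K : ι → Ideal A) (f : ι → A)
    (hsat : ∀ i a, f i * a ∈ K i → a ∈ K i)
    (hloc : ∀ (i : ι) (Q : Ideal A), Q.IsPrime → f i ∉ Q →
      ∃ t ∈ K i, t ≠ 0 ∧ ∀ y ∈ K i, ∃ s ∉ Q, t ∣ s * y) :
    ∃ g : A, g ≠ 0 ∧ ⨅ i, K i = Ideal.span {g} := by
  classical
  have hne : ∀ i, ∃ t ∈ K i, t ≠ 0 := fun i => by
    rcases eq_or_ne (f i) 0 with h | h
    · exact ⟨1, hsat i 1 (by simp [h]), one_ne_zero⟩
    · obtain ⟨t, h1, h2, -⟩ := hloc i ⊥ Ideal.isPrime_bot (by simpa using h)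
      exact ⟨t, h1, h2⟩
  choose t ht ht0 using hne
  let y₀ := ∏ i, t i
  have hy₀ : y₀ ∈ ⨅ i, K i := Ideal.mem_iInf.2 fun i =>
    Ideal.prod_mem _ (Finset.mem_univ i) (ht i)
  have hy₀0 : y₀ ≠ 0 := Finset.prod_ne_zero_iff.2 fun i _ => ht0 i
  -- a greatest common divisor of the intersection
  let T : Set A := {c | ∃ g, (∀ y ∈ ⨅ i, K i, g ∣ y) ∧ y₀ = g * c}
  obtain ⟨c, ⟨g, hg, hgc⟩, hmin⟩ :=
    (wellFounded_dvdNotUnit (α := A)).has_min T ⟨y₀, 1, fun _ _ => one_dvd _, (one_mul _).symm⟩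
  have hg0 : g ≠ 0 := fun h => hy₀0 (by rw [hgc, h, zero_mul])
  have key : ∀ π : A, Prime π → ∃ y ∈ ⨅ i, K i, ∃ j, y = g * j ∧ ¬ π ∣ j := by
    intro π hπ
    by_contra hc
    push Not at hc
    have hall : ∀ y ∈ ⨅ i, K i, g * π ∣ y := fun y hy => by
      obtain ⟨j, hj⟩ := hg y hy
      obtain ⟨m, hm⟩ := hc y hy j hj
      exact ⟨m, by rw [hj, hm, mul_assoc]⟩
    obtain ⟨c', hc'⟩ := hall y₀ hy₀
    have hcc : c = π * c' := mul_left_cancel₀ hg0 (by rw [← hgc, hc', mul_assoc])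
    have hc'0 : c' ≠ 0 := fun h => hy₀0 (by rw [hc', h, mul_zero])
    exact hmin c' ⟨g * π, hall, hc'⟩ ⟨hc'0, π, hπ.not_isUnit, by rw [hcc, mul_comm]⟩
  refine ⟨g, hg0, le_antisymm (fun y hy => Ideal.mem_span_singleton.2 (hg y hy)) ?_⟩
  rw [Ideal.span_le, Set.singleton_subset_iff]
  refine Ideal.mem_iInf.2 fun i => ?_
  let I : Ideal A := Submodule.comap (LinearMap.mulRight A g) (K i)
  have hI : ∀ s, s ∈ I ↔ s * g ∈ K i := fun s => Iff.rfl
  suffices h : f i ∈ I.radical by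
    obtain ⟨n, hn⟩ := h
    rw [hI] at hn
    clear hI
    induction n with
    | zero => simpa using hn
    | succ n ih => exact ih (hsat i _ (by rw [← mul_assoc, ← pow_succ']; exact hn))
  rw [Ideal.radical_eq_sInf, Ideal.mem_sInf]
  rintro Q ⟨hIQ, hQ⟩
  by_contra hfQ
  obtain ⟨t', ht', ht'0, hdiv⟩ := hloc i Q hQ hfQ
  -- `t'` divides `g` up to an element outside `Q`
  have step : ∀ a : A, a ≠ 0 → ∀ g' : A, (∀ π, Prime π → π ∣ a → π ∈ Q → ∃ c, ¬ π ∣ c ∧ a ∣ g' * c) →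
      ∃ s ∉ Q, a ∣ s * g' := by
    intro a
    induction a using UniqueFactorizationMonoid.induction_on_prime with
    | h₁ => intro h; exact absurd rfl h
    | h₂ a ha => intro _ g' _; exact ⟨1, fun h => hQ.ne_top ((Ideal.eq_top_iff_one _).2 h), ha.dvd⟩
    | h₃ a π ha0 hπ ih =>
      intro _ g' h
      by_cases hπQ : π ∈ Q
      · obtain ⟨c, hc, hdvd⟩ := h π hπ (dvd_mul_right _ _) hπQ
        obtain ⟨g'', rfl⟩ := (hπ.dvd_or_dvd ((dvd_mul_right π a).trans hdvd)).resolve_right hc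
        obtain ⟨s, hs, hdvs⟩ := ih ha0 g'' fun π' hπ' hπ'a hπ'Q => by
          obtain ⟨c', hc', hd'⟩ := h π' hπ' (hπ'a.mul_left π) hπ'Q
          exact ⟨c', hc', (mul_dvd_mul_iff_left hπ.ne_zero).1 (by rwa [← mul_assoc])⟩
        exact ⟨s, hs, by rw [mul_left_comm]; exact mul_dvd_mul_left π hdvs⟩
      · obtain ⟨s, hs, hdvs⟩ := ih ha0 g' fun π' hπ' hπ'a hπ'Q => by
          obtain ⟨c', hc', hd'⟩ := h π' hπ' (hπ'a.mul_left π) hπ'Q
          exact ⟨c', hc', (dvd_mul_left a π).trans hd'⟩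
        refine ⟨π * s, fun hh => (hQ.mem_or_mem hh).elim hπQ hs, ?_⟩
        rw [mul_assoc]
        exact mul_dvd_mul_left π hdvs
  obtain ⟨s, hsQ, hdvd⟩ := step t' ht'0 g fun π hπ _ hπQ => by
    obtain ⟨y, hy, j, rfl, hj⟩ := key π hπ
    obtain ⟨s, hs, hd⟩ := hdiv _ (Ideal.mem_iInf.1 hy i)
    refine ⟨s * j, fun hh => (hπ.dvd_or_dvd hh).elim (fun hps => hs ?_) hj, by rwa [mul_left_comm]⟩
    obtain ⟨m, rfl⟩ := hps
    exact Ideal.mul_mem_right _ _ hπQ
  exact hsQ (hIQ ((hI s).2 (Ideal.mem_of_dvd _ hdvd ht')))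

/-- Localisation commutes with finite intersections of ideals. -/
theorem map_iInf_of_isLocalization {R A : Type u} [CommRing R] [CommRing A] [Algebra R A] (M : Submonoid R)
    [IsLocalization M A] {ι : Type*} [Fintype ι] (J : ι → Ideal R) :
    (⨅ i, J i).map (algebraMap R A) = ⨅ i, (J i).map (algebraMap R A) := by
  classical
  refine le_antisymm (le_iInf fun i => Ideal.map_mono (iInf_le _ _)) fun a ha => ?_
  obtain ⟨⟨r, s⟩, hrs⟩ := IsLocalization.surj M a
  have h : ∀ i, ∃ u : M, (u : R) * r ∈ J i := fun i => by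
    have h1 : algebraMap R A r ∈ (J i).map (algebraMap R A) := by
      rw [← hrs]; exact Ideal.mul_mem_right _ _ (Ideal.mem_iInf.1 ha i)
    obtain ⟨u, hu, hur⟩ := (IsLocalization.algebraMap_mem_map_algebraMap_iff M A (J i) r).1 h1
    exact ⟨⟨u, hu⟩, hur⟩
  choose u hu using h
  rw [← Ideal.mul_unit_mem_iff_mem _ (IsLocalization.map_units A s), hrs, IsLocalization.algebraMap_mem_map_algebraMap_iff M]
  refine ⟨_, (∏ i, u i).2, Ideal.mem_iInf.2 fun i => ?_⟩
  obtain ⟨v, hv⟩ : (u i : R) ∣ ((∏ i, u i : M) : R) := by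
    rw [Submonoid.coe_finsetProd]; exact Finset.dvd_prod_of_mem _ (Finset.mem_univ i)
  rw [hv, mul_comm (u i : R) v, mul_assoc]
  exact Ideal.mul_mem_left _ _ (hu i)

variable {X : Scheme.{u}}

/-- Restricting the scheme theoretic closure to an open subscheme gives back the closed subscheme. -/
theorem comap_map_ι (U : X.Opens) [QuasiCompact U.ι] (D : (U : Scheme.{u}).IdealSheafData) :
    (D.map U.ι).comap U.ι = D := by
  ext V : 2
  have e : U.ι ⁻¹ᵁ (U.ι ''ᵁ V.1) = V.1 := U.ι.preimage_image_eq V.1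
  have H : IsAffineOpen (U.ι ⁻¹ᵁ (U.ι ''ᵁ V.1)) := by rw [e]; exact V.2
  rw [Scheme.IdealSheafData.ideal_comap_of_isOpenImmersion,
    Scheme.IdealSheafData.ideal_map D U.ι ⟨U.ι ''ᵁ V.1, V.2.image_of_isOpenImmersion U.ι⟩ H, Ideal.comap_comap,
    ← CommRingCat.hom_comp]
  rw [Scheme.Hom.appIso_inv_app]
  have h2 := D.map_ideal' (U := ⟨_, H⟩) (V := V) (eqToHom (U.ι.preimage_image_eq V.1)).op
  rw [← h2]
  exact Ideal.comap_map_of_bijective _ (ConcreteCategory.bijective_of_isIso _)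

/-- Sections in the ideal of a scheme theoretic image, checked on a cover of the image. -/
theorem mem_ker_of_cover {Z : Scheme.{u}} (i : Z ⟶ X) [QuasiCompact i] (W : X.affineOpens) {ι : Type u}
    (V : ι → X.affineOpens) (hV : ∀ k, V k ≤ W) (hcov : i ⁻¹ᵁ W.1 ≤ ⨆ k, i ⁻¹ᵁ (V k).1) (r : Γ(X, W.1))
    (h : ∀ k, X.presheaf.map (homOfLE (hV k)).op r ∈ i.ker.ideal (V k)) : r ∈ i.ker.ideal W := by
  rw [Scheme.Hom.ker_apply, RingHom.mem_ker]
  refine Z.sheaf.eq_of_locally_eq' (fun k => i ⁻¹ᵁ (V k).1) _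
    (fun k => homOfLE (i.preimage_mono (hV k))) hcov _ _ fun k => ?_
  have hk := h k
  rw [Scheme.Hom.ker_apply, RingHom.mem_ker] at hk
  have hn := congrArg (fun m : Γ(X, W.1) ⟶ Γ(Z, i ⁻¹ᵁ (V k).1) => m r) (i.naturality (homOfLE (hV k)).op)
  refine Eq.trans ?_ (map_zero _).symm
  exact hn.symm.trans hk

/-- An ideal sheaf is Cartier at points of an open subscheme on which it is Cartier. -/
theorem exists_gen_of_comap (U : X.Opens) (D' : X.IdealSheafData) (hD : BlowUp.IsEffCartierIdeal (D'.comap U.ι))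
    (q : X) (hq : q ∈ U) :
    ∃ V : X.affineOpens, q ∈ V.1 ∧ ∃ f : Γ(X, V.1), f ∈ nonZeroDivisors Γ(X, V.1) ∧ D'.ideal V = Ideal.span {f} := by
  obtain ⟨V, hqV, f, hf, hDV⟩ := hD ⟨q, hq⟩
  refine ⟨⟨U.ι ''ᵁ V.1, V.2.image_of_isOpenImmersion U.ι⟩, ⟨⟨q, hq⟩, hqV, rfl⟩, (U.ι.appIso V.1).inv f, ?_, ?_⟩
  · let e := (U.ι.appIso V.1).commRingCatIsoToRingEquiv.symm
    exact (MulEquivClass.map_nonZeroDivisors e.toMulEquiv).le ⟨f, hf, rfl⟩
  · rw [Scheme.IdealSheafData.ideal_comap_of_isOpenImmersion] at hDV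
    have h0 := Ideal.map_comap_of_surjective (U.ι.appIso V.1).inv.hom
      (ConcreteCategory.bijective_of_isIso (U.ι.appIso V.1).inv).2 (D'.ideal ⟨U.ι ''ᵁ V.1, V.2.image_of_isOpenImmersion U.ι⟩)
    rw [← h0, hDV, Ideal.map_span, Set.image_singleton]

set_option maxHeartbeats 1000000 in
/-- Effective Cartier divisors extend over points with factorial local rings. -/
theorem exists_extension [IsLocallyNoetherian X] (U : X.Opens)
    (D : (U : Scheme.{u}).IdealSheafData) (hD : BlowUp.IsEffCartierIdeal D)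
    (hufd : ∀ x : X, x ∉ U → IsDomain (X.presheaf.stalk x) ∧ UniqueFactorizationMonoid (X.presheaf.stalk x)) :
    ∃ D' : X.IdealSheafData, BlowUp.IsEffCartierIdeal D' ∧ D'.comap U.ι = D := by
  classical
  haveI : QuasiCompact U.ι := inferInstance
  refine ⟨D.map U.ι, fun x => ?_, comap_map_ι U D⟩
  have hcomap : BlowUp.IsEffCartierIdeal ((D.map U.ι).comap U.ι) := by rw [comap_map_ι]; exact hD
  by_cases hxU : x ∈ U
  · exact exists_gen_of_comap U _ hcomap x hxU
  obtain ⟨_, ⟨W, hW, rfl⟩, hxW, -⟩ := X.isBasis_affineOpens.exists_subset_of_mem_open (Set.mem_univ x) isOpen_univ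
  replace hW : IsAffineOpen W := hW
  haveI : IsNoetherianRing Γ(X, W) := IsLocallyNoetherian.component_noetherian ⟨W, hW⟩
  -- `W ∩ U` is covered by finitely many basic opens
  obtain ⟨s, hs⟩ := (PrimeSpectrum.isOpen_iff _).1 (hW.fromSpec ⁻¹ᵁ U).2
  obtain ⟨S, hS⟩ := (IsNoetherian.noetherian (Ideal.span s) : (Ideal.span s).FG)
  have hmemU : ∀ (q : X) (hq : q ∈ W), q ∈ U ↔ ∃ f ∈ S, f ∉ (hW.primeIdealOf ⟨q, hq⟩).asIdeal := fun q hq => by
    have h1 := Set.ext_iff.1 hs (hW.primeIdealOf ⟨q, hq⟩)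
    have h2 : ¬ hW.fromSpec (hW.primeIdealOf ⟨q, hq⟩) ∈ U ↔
        (Ideal.span s : Set Γ(X, W)) ⊆ (hW.primeIdealOf ⟨q, hq⟩).asIdeal := by
      rw [← PrimeSpectrum.mem_zeroLocus, PrimeSpectrum.zeroLocus_span]
      exact h1
    rw [hW.fromSpec_primeIdealOf ⟨q, hq⟩, SetLike.coe_subset_coe, ← hS, Ideal.span_le] at h2
    rw [← not_iff_not, h2]
    simp [Set.subset_def]
  have hbasic : ∀ f ∈ S, X.basicOpen f ≤ U := fun f hf q hq => by
    have hqW : q ∈ W := X.basicOpen_le f hq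
    exact (hmemU q hqW).2 ⟨f, hf, (Groth.Agent.QCoh.mem_basicOpen_iff_notMem hW hqW f).1 hq⟩
  set D' := D.map U.ι with hD'
  let J : S → Ideal Γ(X, W) := fun f => (D'.ideal (X.affineBasicOpen (U := ⟨W, hW⟩) f.1)).comap
    (X.presheaf.map (homOfLE (X.basicOpen_le f.1)).op).hom
  have hJ : D'.ideal ⟨W, hW⟩ = ⨅ f, J f := by
    refine le_antisymm (le_iInf fun f => Ideal.map_le_iff_le_comap.1 (D'.map_ideal _).le) fun r hr => ?_
    refine mem_ker_of_cover (D.subschemeι ≫ U.ι) ⟨W, hW⟩ (fun f : S => X.affineBasicOpen (U := ⟨W, hW⟩) f.1)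
      (fun f => X.basicOpen_le f.1) ?_ r fun f => Ideal.mem_iInf.1 hr f
    intro z hz
    have hzU : (D.subschemeι ≫ U.ι) z ∈ U := by rw [Scheme.Hom.comp_apply]; exact (D.subschemeι z).2
    obtain ⟨f, hf, hfz⟩ := (hmemU _ hz).1 hzU
    exact Opens.mem_iSup.2 ⟨⟨f, hf⟩, (Groth.Agent.QCoh.mem_basicOpen_iff_notMem hW hz f).2 hfz⟩
  set p := (hW.primeIdealOf ⟨x, hxW⟩).asIdeal with hp
  obtain ⟨hdom, hufd'⟩ := hufd x hxU
  letI : Algebra Γ(X, W) (X.presheaf.stalk x) := (X.presheaf.germ W x hxW).hom.toAlgebra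
  haveI : IsLocalization.AtPrime (X.presheaf.stalk x) p := hW.isLocalization_stalk ⟨x, hxW⟩
  let A := X.presheaf.stalk x
  obtain ⟨g, hg0, hgK⟩ : ∃ g : A, g ≠ 0 ∧ ⨅ f : S, (J f).map (algebraMap Γ(X, W) A) = Ideal.span {g} := by
    refine exists_span_eq_iInf (fun f : S => (J f).map (algebraMap Γ(X, W) A))
      (fun f => algebraMap Γ(X, W) A f.1) (fun f a ha => ?_) fun f Q hQ hfQ => ?_
    · obtain ⟨⟨r, s'⟩, hrs⟩ := IsLocalization.surj p.primeCompl a
      rw [← Ideal.mul_unit_mem_iff_mem _ (IsLocalization.map_units A s'), hrs, IsLocalization.algebraMap_mem_map_algebraMap_iff p.primeCompl]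
      have h1 : algebraMap Γ(X, W) A (f.1 * r) ∈ (J f).map (algebraMap Γ(X, W) A) := by
        rw [map_mul, ← hrs, ← mul_assoc]; exact Ideal.mul_mem_right _ _ ha
      obtain ⟨u, hu, hur⟩ := (IsLocalization.algebraMap_mem_map_algebraMap_iff p.primeCompl A _ _).1 h1
      refine ⟨u, hu, ?_⟩
      simp only [J, Ideal.mem_comap] at hur ⊢
      rw [show u * (f.1 * r) = f.1 * (u * r) by ring] at hur
      erw [map_mul] at hur
      exact (Ideal.unit_mul_mem_iff_mem _ (RingedSpace.isUnit_res_basicOpen X.toLocallyRingedSpace.toRingedSpace f.1)).1 hur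
    · obtain ⟨q, hqW, hPq⟩ : ∃ (q : X) (hq : q ∈ W),
          (hW.primeIdealOf ⟨q, hq⟩).asIdeal = Q.comap (algebraMap Γ(X, W) A) := by
        let P₀ : PrimeSpectrum Γ(X, W) := ⟨Q.comap (algebraMap Γ(X, W) A), inferInstance⟩
        have hqW : hW.fromSpec P₀ ∈ W := by
          have : hW.fromSpec P₀ ∈ hW.fromSpec.opensRange := ⟨P₀, rfl⟩
          rwa [IsAffineOpen.opensRange_fromSpec] at this
        exact ⟨_, hqW, congrArg PrimeSpectrum.asIdeal
          (hW.fromSpec.isOpenEmbedding.injective (hW.fromSpec_primeIdealOf ⟨_, hqW⟩) :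
            hW.primeIdealOf ⟨hW.fromSpec P₀, hqW⟩ = P₀)⟩
      have hqf : q ∈ X.basicOpen f.1 :=
        (Groth.Agent.QCoh.mem_basicOpen_iff_notMem hW hqW f.1).2 (by rw [hPq]; exact hfQ)
      obtain ⟨V, hqV, fV, hfV, hDV⟩ := exists_gen_of_comap U D' hcomap _ (hbasic f.1 f.2 hqf)
      letI : Algebra Γ(X, W) (X.presheaf.stalk q) :=
        (X.presheaf.germ W q hqW).hom.toAlgebra
      let P := hW.primeIdealOf ⟨q, hqW⟩
      haveI hlocP : IsLocalization.AtPrime (X.presheaf.stalk q) P.asIdeal := hW.isLocalization_stalk ⟨q, hqW⟩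
      letI : Algebra Γ(X, V.1) (X.presheaf.stalk q) :=
        (X.presheaf.germ V.1 q hqV).hom.toAlgebra
      haveI : IsLocalization.AtPrime (X.presheaf.stalk q) (V.2.primeIdealOf ⟨_, hqV⟩).asIdeal :=
        V.2.isLocalization_stalk ⟨_, hqV⟩
      -- compare on a common neighbourhood
      obtain ⟨_, ⟨N, hN, rfl⟩, hqN, hNle⟩ := X.isBasis_affineOpens.exists_subset_of_mem_open
        (show q ∈ (V.1 ⊓ X.basicOpen f.1 : X.Opens) from ⟨hqV, hqf⟩) (V.1 ⊓ X.basicOpen f.1).2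
      replace hN : IsAffineOpen N := hN
      have hNV : N ≤ V.1 := fun z hz => (hNle hz).1
      have hNf : N ≤ X.basicOpen f.1 := fun z hz => (hNle hz).2
      have hmapV : (D'.ideal V).map (X.presheaf.germ V.1 _ hqV).hom = (D'.ideal ⟨N, hN⟩).map (X.presheaf.germ N _ hqN).hom := by
        rw [← D'.map_ideal (U := ⟨N, hN⟩) (V := V) hNV, Ideal.map_map, ← CommRingCat.hom_comp]
        exact congrArg (fun m => (D'.ideal V).map (CommRingCat.Hom.hom m)) (X.presheaf.germ_res (homOfLE hNV) q hqN).symm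
      have hmapf : (D'.ideal (X.affineBasicOpen (U := ⟨W, hW⟩) f.1)).map (X.presheaf.germ (X.basicOpen f.1) _ hqf).hom =
          (D'.ideal ⟨N, hN⟩).map (X.presheaf.germ N _ hqN).hom := by
        rw [← D'.map_ideal (U := ⟨N, hN⟩) (V := X.affineBasicOpen (U := ⟨W, hW⟩) f.1) hNf, Ideal.map_map,
          ← CommRingCat.hom_comp]
        exact congrArg (fun m => (D'.ideal (X.affineBasicOpen (U := ⟨W, hW⟩) f.1)).map (CommRingCat.Hom.hom m))
          (X.presheaf.germ_res (homOfLE hNf) q hqN).symm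
      have hB : (J f).map (algebraMap Γ(X, W) (X.presheaf.stalk q)) =
          Ideal.span {algebraMap Γ(X, V.1) (X.presheaf.stalk q) fV} := by
        have e : (J f).map (X.presheaf.map (homOfLE (X.basicOpen_le f.1)).op).hom =
            D'.ideal (X.affineBasicOpen (U := ⟨W, hW⟩) f.1) := by
          refine le_antisymm Ideal.map_comap_le ?_
          rw [← D'.map_ideal (U := X.affineBasicOpen (U := ⟨W, hW⟩) f.1) (V := ⟨W, hW⟩) (X.basicOpen_le f.1)]
          exact Ideal.map_mono (hJ.le.trans (iInf_le _ f))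
        show (J f).map (X.presheaf.germ W _ hqW).hom = _
        rw [← X.presheaf.germ_res (homOfLE (X.basicOpen_le f.1)) _ hqf, CommRingCat.hom_comp, ← Ideal.map_map, e]
        refine hmapf.trans (hmapV.symm.trans ?_)
        rw [hDV, Ideal.map_span, Set.image_singleton]
        rfl
      set fq := algebraMap Γ(X, V.1) (X.presheaf.stalk q) fV with hfq
      have hfqB : fq ∈ nonZeroDivisors (X.presheaf.stalk q) := IsLocalization.map_nonZeroDivisors_le (V.2.primeIdealOf ⟨_, hqV⟩).asIdeal.primeCompl (X.presheaf.stalk q) ⟨_, hfV, rfl⟩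
      obtain ⟨⟨⟨t₀, ht₀⟩, u₀⟩, hu₀⟩ := (IsLocalization.mem_map_algebraMap_iff P.asIdeal.primeCompl (X.presheaf.stalk q)).1
        (hB ▸ Ideal.mem_span_singleton_self fq : fq ∈ (J f).map (algebraMap Γ(X, W) (X.presheaf.stalk q)))
      refine ⟨algebraMap Γ(X, W) A t₀, Ideal.mem_map_of_mem _ ht₀, fun h0 => ?_, fun y hy => ?_⟩
      · obtain ⟨w, hw⟩ := (IsLocalization.map_eq_zero_iff p.primeCompl A _).1 h0
        have hwP : w.1 ∉ P.asIdeal := fun h =>
          hQ.ne_top (Ideal.eq_top_of_isUnit_mem _ (Ideal.mem_comap.1 (hPq ▸ h)) (IsLocalization.map_units A w))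
        have h1 : algebraMap Γ(X, W) (X.presheaf.stalk q) t₀ = 0 :=
          (IsLocalization.map_eq_zero_iff P.asIdeal.primeCompl (X.presheaf.stalk q) _).2 ⟨⟨w.1, hwP⟩, hw⟩
        rw [← hu₀] at h1
        have h2 : fq = 0 := (IsLocalization.map_units (X.presheaf.stalk q) u₀).mul_left_eq_zero.1 h1
        haveI : Nontrivial (X.presheaf.stalk q) := inferInstance
        exact nonZeroDivisors.ne_zero hfqB h2
      · obtain ⟨⟨⟨r, hr⟩, s'⟩, hrs⟩ := (IsLocalization.mem_map_algebraMap_iff p.primeCompl A).1 hy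
        have h1 : algebraMap Γ(X, W) (X.presheaf.stalk q) r ∈ Ideal.span {fq} := hB ▸ Ideal.mem_map_of_mem _ hr
        have h2 : algebraMap Γ(X, W) (X.presheaf.stalk q) r ∈ (Ideal.span {t₀}).map (algebraMap Γ(X, W) (X.presheaf.stalk q)) := by
          rw [Ideal.map_span, Set.image_singleton, ← hu₀,
            Ideal.span_singleton_mul_right_unit (IsLocalization.map_units (X.presheaf.stalk q) u₀)]
          exact h1
        obtain ⟨u, hu, hur⟩ := (IsLocalization.algebraMap_mem_map_algebraMap_iff P.asIdeal.primeCompl (X.presheaf.stalk q) _ _).1 h2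
        refine ⟨algebraMap Γ(X, W) A (u * s'.1), fun h => ?_, ?_⟩
        · have hu' : u * s'.1 ∈ P.asIdeal := hPq.symm ▸ (Ideal.mem_comap.2 h : u * s'.1 ∈ Q.comap (algebraMap Γ(X, W) A))
          rcases P.isPrime.mem_or_mem hu' with h' | h'
          · exact hu h'
          · exact hQ.ne_top (Ideal.eq_top_of_isUnit_mem _ (Ideal.mem_comap.1 (hPq ▸ h')) (IsLocalization.map_units A s'))
        · obtain ⟨c, hc⟩ := Ideal.mem_span_singleton'.1 hur
          refine ⟨algebraMap Γ(X, W) A c, ?_⟩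
          simp only at hrs
          rw [map_mul, mul_assoc, mul_comm (algebraMap Γ(X, W) A s'.1), hrs, ← map_mul, ← map_mul, ← hc, mul_comm]
  -- a generator near `x`
  have hJA : (D'.ideal ⟨W, hW⟩).map (algebraMap Γ(X, W) A) = Ideal.span {g} := by
    rw [hJ, map_iInf_of_isLocalization p.primeCompl, hgK]
  obtain ⟨⟨⟨r, hr⟩, s'⟩, hrs⟩ := (IsLocalization.mem_map_algebraMap_iff p.primeCompl A).1
    (hJA ▸ Ideal.mem_span_singleton_self g : g ∈ (D'.ideal ⟨W, hW⟩).map (algebraMap Γ(X, W) A))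
  have hspan : Ideal.span {algebraMap Γ(X, W) A r} = Ideal.span {g} := by
    rw [← hrs]; exact Ideal.span_singleton_mul_right_unit (IsLocalization.map_units A s') _
  obtain ⟨a, ha, hS'⟩ := Groth.Agent.DivX.exists_gen_away _ p A r
    (fun h => hg0 ((IsLocalization.map_units A s').mul_left_eq_zero.1 (hrs.trans h))) hr (hJA.trans hspan.symm)
  haveI := hW.isLocalization_basicOpen a
  obtain ⟨h1, h2⟩ := hS' Γ(X, X.basicOpen a)
  refine ⟨X.affineBasicOpen (U := ⟨W, hW⟩) a, (Groth.Agent.QCoh.mem_basicOpen_iff_notMem hW hxW a).2 ha, _, h2, ?_⟩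
  rw [← D'.map_ideal_basicOpen ⟨W, hW⟩ a]
  exact h1

end Groth.Agent.CartExt
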