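import Groth.Agent.CartExt.Gam
import Groth.Agent.MeroX.BaseChange
import Groth.Agent.ModPairLib.Basic
import Groth.Agent.CAlgUI.Flat
import Groth.Prelude.Def_BlowUp2

/-!
# Affines on which a Cartier divisor is principal
-/

set_option autoImplicit false
universe u

open CategoryTheory CategoryTheory.Limits AlgebraicGeometry TopologicalSpace Opposite

namespace Groth.Agent.CartExt

variable {P : Scheme.{u}}

/-- An affine open on which the ideal is generated by a nonzerodivisor. -/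
structure GoodAff (I : P.IdealSheafData) where
  W : P.affineOpens
  t : Γ(P, W.1)
  nzd : t ∈ nonZeroDivisors Γ(P, W.1)
  ideal_eq : I.ideal W = Ideal.span {t}

theorem nzd_basicOpen {U : P.Opens} (hU : IsAffineOpen U) (r : Γ(P, U)) {a : Γ(P, U)}
    (ha : a ∈ nonZeroDivisors Γ(P, U)) :
    P.presheaf.map (homOfLE (P.basicOpen_le r)).op a ∈ nonZeroDivisors Γ(P, P.basicOpen r) := by
  haveI := hU.isLocalization_basicOpen r
  exact MeroX.nonZeroDivisors_map (A := Γ(P, U)) (S := Γ(P, P.basicOpen r)) (Submonoid.powers r) ha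

variable {I : P.IdealSheafData}

theorem exists_good_le (hI : BlowUp.IsEffCartierIdeal I) (O : P.Opens) (x : P) (hx : x ∈ O) :
    ∃ g : GoodAff I, x ∈ g.W.1 ∧ g.W.1 ≤ O := by
  obtain ⟨U, hxU, a, ha, hUa⟩ := hI x
  obtain ⟨r, hrO, hxr⟩ := U.2.exists_basicOpen_le (V := O) ⟨x, hx⟩ hxU
  refine ⟨⟨P.affineBasicOpen r, P.presheaf.map (homOfLE (P.basicOpen_le r)).op a, nzd_basicOpen U.2 r ha, ?_⟩,
    hxr, hrO⟩
  rw [← I.map_ideal_basicOpen U r, hUa, Ideal.map_span, Set.image_singleton]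
  rfl

variable {Q : P.Opens}

theorem inf_eq_basicOpen (hQ : Q = I.support.compl) (g : GoodAff I) : g.W.1 ⊓ Q = P.basicOpen g.t := by
  have h1 : (I.support : Set P) ∩ g.W.1 = P.zeroLocus (U := g.W.1) {g.t} ∩ g.W.1 := by
    rw [I.coe_support_inter g.W, g.ideal_eq, Scheme.zeroLocus_span]
  rw [Scheme.zeroLocus_singleton] at h1
  ext x
  subst hQ
  refine ⟨fun ⟨hxW, hxQ⟩ => by_contra fun hx => hxQ (h1.ge ⟨hx, hxW⟩).1, fun hx => ⟨P.basicOpen_le _ hx, ?_⟩⟩
  exact fun hs => (h1.le ⟨hs, P.basicOpen_le _ hx⟩).1 hx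

theorem isAffineOpen_inf (hQ : Q = I.support.compl) (g : GoodAff I) : IsAffineOpen (g.W.1 ⊓ Q) := by
  rw [inf_eq_basicOpen hQ g]; exact g.W.2.basicOpen _

theorem isAffineHom_compl (hI : BlowUp.IsEffCartierIdeal I) (hQ : Q = I.support.compl) : IsAffineHom Q.ι := by
  refine isAffineHom_of_forall_exists_isAffineOpen _ fun x => ?_
  obtain ⟨g, hx, -⟩ := exists_good_le hI ⊤ x (Opens.mem_top x)
  refine ⟨g.W.1, hx, g.W.2, ?_⟩
  rw [← Q.ι.isAffineOpen_iff_of_isOpenImmersion, Scheme.Hom.image_preimage_eq_opensRange_inf,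
    Scheme.Opens.opensRange_ι, inf_comm]
  exact isAffineOpen_inf hQ g

section away

variable {U V : P.Opens} (hU : IsAffineOpen U) {f : Γ(P, U)} (hVU : V ≤ U) (e : V = P.basicOpen f)
include hU e

theorem res_injective (hf : f ∈ nonZeroDivisors Γ(P, U)) :
    Function.Injective (P.presheaf.map (homOfLE hVU).op) := by
  letI := (P.presheaf.map (homOfLE hVU).op).hom.toAlgebra
  haveI : IsLocalization.Away f Γ(P, V) := hU.isLocalization_of_eq_basicOpen f _ e
  exact IsLocalization.injective Γ(P, V) (M := Submonoid.powers f) (Submonoid.powers_le.2 hf)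

theorem exists_pow_mul_eq (x : Γ(P, V)) : ∃ (n : ℕ) (b : Γ(P, U)),
    P.presheaf.map (homOfLE hVU).op f ^ n * x = P.presheaf.map (homOfLE hVU).op b := by
  letI := (P.presheaf.map (homOfLE hVU).op).hom.toAlgebra
  haveI : IsLocalization.Away f Γ(P, V) := hU.isLocalization_of_eq_basicOpen f _ e
  obtain ⟨⟨b, ⟨_, n, rfl⟩⟩, h⟩ := IsLocalization.surj (Submonoid.powers f) x
  refine ⟨n, b, ?_⟩
  rw [mul_comm, ← map_pow]
  exact h

theorem isUnit_res : IsUnit (P.presheaf.map (homOfLE hVU).op f) := by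
  letI := (P.presheaf.map (homOfLE hVU).op).hom.toAlgebra
  haveI : IsLocalization.Away f Γ(P, V) := hU.isLocalization_of_eq_basicOpen f _ e
  exact IsLocalization.Away.algebraMap_isUnit f

end away

theorem appLE_nzd {P' : Scheme.{u}} (φ : P' ⟶ P) (hC : BlowUp.IsEffCartierIdeal (I.comap φ)) (g : GoodAff I)
    (W' : P'.affineOpens) (h : W'.1 ≤ φ ⁻¹ᵁ g.W.1) :
    φ.appLE g.W.1 W'.1 h g.t ∈ nonZeroDivisors Γ(P', W'.1) := by
  set τ := φ.appLE g.W.1 W'.1 h g.t with hτ
  have hW' : (I.comap φ).ideal W' = Ideal.span {τ} := by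
    rw [ModPairLib.ideal_comap I φ g.W W' h, g.ideal_eq, Ideal.map_span, Set.image_singleton]
  have hloc : ∀ x ∈ W'.1, ∃ (D : P'.Opens) (i : D ≤ W'.1), x ∈ D ∧
      P'.presheaf.map (homOfLE i).op τ ∈ nonZeroDivisors Γ(P', D) := by
    intro x hx
    obtain ⟨U, hxU, a, ha, hUa⟩ := hC x
    obtain ⟨f, r, hfr, hxf⟩ := exists_basicOpen_le_affine_inter W'.2 U.2 x ⟨hx, hxU⟩
    refine ⟨P'.basicOpen f, P'.basicOpen_le f, hxf, ?_⟩
    have hDU : P'.basicOpen f ≤ U.1 := hfr.le.trans (P'.basicOpen_le r)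
    let D : P'.affineOpens := P'.affineBasicOpen f
    have ha' : P'.presheaf.map (homOfLE hDU).op a ∈ nonZeroDivisors Γ(P', P'.basicOpen f) := by
      have key : ∀ (O : P'.Opens) (e : O = P'.basicOpen r) (i : O ≤ U.1),
          P'.presheaf.map (homOfLE i).op a ∈ nonZeroDivisors Γ(P', O) := by
        rintro _ rfl i; exact nzd_basicOpen U.2 r ha
      exact key _ hfr hDU
    have e1 := (I.comap φ).map_ideal (U := D) (V := W') (P'.basicOpen_le f)
    have e2 := (I.comap φ).map_ideal (U := D) (V := U) hDU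
    rw [hW', Ideal.map_span, Set.image_singleton] at e1
    rw [hUa, Ideal.map_span, Set.image_singleton, ← e1] at e2
    obtain ⟨c, hc⟩ := Ideal.mem_span_singleton'.1 (e2.le (Ideal.mem_span_singleton_self _))
    obtain ⟨d, hd⟩ := Ideal.mem_span_singleton'.1 (e2.ge (Ideal.mem_span_singleton_self _))
    refine mem_nonZeroDivisors_iff_right.2 fun z hz => ?_
    refine mem_nonZeroDivisors_iff_right.1 ha' z ?_
    have hc' : (show Γ(P', P'.basicOpen f) from c) * P'.presheaf.map (homOfLE (P'.basicOpen_le f)).op τ =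
        P'.presheaf.map (homOfLE hDU).op a := hc
    rw [← hc', mul_left_comm]
    exact mul_eq_zero_of_right _ hz
  refine mem_nonZeroDivisors_iff_right.2 fun z hz => ?_
  choose D i hxD hD using hloc
  refine TopCat.Sheaf.eq_of_locally_eq' ⟨P'.presheaf, P'.sheaf.2⟩ (fun x : W'.1 => D x.1 x.2) W'.1
    (fun x => homOfLE (i x.1 x.2)) (fun x hx => Opens.mem_iSup.2 ⟨⟨x, hx⟩, hxD x hx⟩) _ _ fun x => ?_
  show P'.presheaf.map (homOfLE (i x.1 x.2)).op z = P'.presheaf.map (homOfLE (i x.1 x.2)).op 0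
  rw [map_zero]
  exact mem_nonZeroDivisors_iff_right.1 (hD x.1 x.2) _ (by rw [← map_mul, hz, map_zero])

section algebra

variable {A B : Type u} [CommRing A] [CommRing B] [Algebra A B]

theorem flat_quot_pow (t : B) (ht : t ∈ nonZeroDivisors B) [Module.Flat A (B ⧸ Ideal.span {t})] (n : ℕ) :
    Module.Flat A (B ⧸ Ideal.span {t ^ n}) := by
  induction n with
  | zero =>
    haveI : Subsingleton (B ⧸ Ideal.span {t ^ 0}) := Ideal.Quotient.subsingleton_iff.2 (by simp)
    infer_instance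
  | succ n ih =>
    haveI := ih
    let f : (B ⧸ Ideal.span {t}) →ₗ[B] (B ⧸ Ideal.span {t ^ (n + 1)}) :=
      Submodule.mapQ _ _ (LinearMap.mulLeft B (t ^ n)) fun x hx => by
        obtain ⟨c, rfl⟩ := Ideal.mem_span_singleton'.1 hx
        exact Ideal.mem_span_singleton'.2 ⟨c, by simp only [LinearMap.mulLeft_apply]; ring⟩
    let g : (B ⧸ Ideal.span {t ^ (n + 1)}) →ₗ[B] (B ⧸ Ideal.span {t ^ n}) :=
      Submodule.mapQ _ _ LinearMap.id fun x hx => by
        obtain ⟨c, rfl⟩ := Ideal.mem_span_singleton'.1 hx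
        exact Ideal.mem_span_singleton'.2 ⟨c * t, by show c * t * t ^ n = c * t ^ (n + 1); ring⟩
    have hg : Function.Surjective g := fun y => by
      obtain ⟨b, rfl⟩ := Submodule.mkQ_surjective _ y
      exact ⟨Submodule.Quotient.mk b, rfl⟩
    have hf : Function.Injective f := by
      refine (injective_iff_map_eq_zero f).2 fun y hy => ?_
      obtain ⟨b, rfl⟩ := Submodule.mkQ_surjective _ y
      obtain ⟨c, hc⟩ := Ideal.mem_span_singleton'.1 ((Submodule.Quotient.mk_eq_zero _).1 hy)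
      rw [LinearMap.mulLeft_apply] at hc
      refine (Submodule.Quotient.mk_eq_zero _).2 (Ideal.mem_span_singleton'.2 ⟨c, ?_⟩)
      refine (mul_cancel_left_mem_nonZeroDivisors (pow_mem ht n)).1 ?_
      rw [← hc]; ring
    have hex : Function.Exact f g := fun y => by
      obtain ⟨b, rfl⟩ := Submodule.mkQ_surjective _ y
      constructor
      · intro hy
        obtain ⟨c, hc⟩ := Ideal.mem_span_singleton'.1 ((Submodule.Quotient.mk_eq_zero _).1 hy)
        refine ⟨Submodule.Quotient.mk c, ?_⟩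
        show Submodule.Quotient.mk (t ^ n * c) = Submodule.Quotient.mk b
        rw [mul_comm, hc]; rfl
      · rintro ⟨z, hz⟩
        obtain ⟨c, rfl⟩ := Submodule.mkQ_surjective _ z
        rw [← hz]
        show Submodule.Quotient.mk (t ^ n * c) = 0
        exact (Submodule.Quotient.mk_eq_zero _).2 (Ideal.mem_span_singleton'.2 ⟨c, mul_comm _ _⟩)
    exact CAlgUI.flat_middle (f := f.restrictScalars A) (g := g.restrictScalars A) hf hex hg

variable {N : Type u} [AddCommGroup N] [Module B N] [Module A N] [IsScalarTower A B N]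

/-- The linear equivalence from a surjection. -/
noncomputable def quotEquiv (q : B →ₗ[B] N) (hq : Function.Surjective q) {J : Ideal B}
    (hk : LinearMap.ker q = J) : (B ⧸ J) ≃ₗ[A] N :=
  (Submodule.quotEquivOfEq _ _ hk.symm ≪≫ₗ q.quotKerEquivOfSurjective hq).restrictScalars A

end algebra

end Groth.Agent.CartExt
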