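import Groth.Agent.Lib.CurveSpecial
import Groth.Agent.Lib.CurveDeg
import Groth.Agent.S1536
import Groth.Agent.S2501
import Groth.Agent.S2535

/-! Large degree kills first cohomology on any integral proper curve. -/

set_option linter.style.haveILetI false
set_option linter.unusedSectionVars false
set_option backward.isDefEq.respectTransparency false
set_option backward.isDefEq.respectTransparency.types false

universe u

open CategoryTheory CategoryTheory.Limits AlgebraicGeometry TopologicalSpace Opposite
open Groth.Agent.PnCoh.Finite (mapLin)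

namespace Groth.Agent.CartExt

open Groth.Agent.CurveSpecial

variable {X : Scheme.{u}} (k : Type u) [Field k] [X.Over (Spec (CommRingCat.of k))]
  [IsIntegral X] [IsProper (X ↘ Spec (CommRingCat.of k))]

/-- An integral scheme over an algebraically closed field is geometrically reduced. -/
theorem geometricallyReduced_of_integral [IsAlgClosed k] :
    GeometricallyReduced (X ↘ Spec (CommRingCat.of k)) := by
  haveI : IsIso (Spec.map (CommRingCat.ofHom (algebraMap k k))) := by
    rw [Algebra.algebraMap_self, CommRingCat.ofHom_id]; infer_instance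
  haveI : AlgebraicGeometry.IsReduced (FBase.bc (X ↘ Spec (CommRingCat.of k)) k) :=
    isReduced_of_isOpenImmersion (pullback.fst (X ↘ Spec (CommRingCat.of k)) (Spec.map (CommRingCat.ofHom (algebraMap k k))))
  exact S2535.result (Ω := k) _

include k in
/-- A non-zero map of invertible modules on a proper curve is surjective on first cohomology. -/
theorem surjective_mapLin_one (hdim : topologicalKrullDim X ≤ 1) {N L : X.Modules}
    (hN : PicF.IsInvertible N) (hL : PicF.IsInvertible L) (φ : N ⟶ L) (hφ : φ ≠ 0) :
    Function.Surjective (mapLin k φ 1) := by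
  haveI : IsLocallyNoetherian X :=
    LocallyOfFiniteType.isLocallyNoetherian (X ↘ Spec (CommRingCat.of k))
  have hNc := CurveDeg.isCoh_of_isInvertible hN
  have hLc := CurveDeg.isCoh_of_isInvertible hL
  have hQ : Coh.IsCoh (cokernel φ) := QCoh.isCoh_cokernel hNc.1 hLc φ
  haveI : Mono φ := InvEnd.mono_of_ne_zero hN hL φ hφ
  have hS : (ShortComplex.mk φ (cokernel.π φ) (cokernel.condition φ)).ShortExact :=
    { exact := ShortComplex.exact_of_g_is_cokernel _ (cokernelIsCokernel φ) }
  have hdimQ : topologicalKrullDim (CohB1.support (cokernel φ)) ≤ 0 := by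
    refine CurveDeg.topologicalKrullDim_le_zero_of_ne_univ hdim (QCoh.isClosed_support_of_isFT hQ.1 hQ.2)
      fun hu => ?_
    obtain ⟨W, ⟨⟨w, hw⟩⟩, hW⟩ := CurveDeg.exists_open_surjective hN hL φ hφ
    obtain ⟨_, ⟨V, hV, rfl⟩, hwV, hVW⟩ :=
      X.isBasis_affineOpens.exists_subset_of_mem_open hw W.isOpen
    refine absurd (hu.symm.subset (Set.mem_univ w)) ((QCoh.notMem_support_iff hQ.1 hV hwV).2 fun m => ?_)
    obtain ⟨l, rfl⟩ := QCoh.app_surjective_of_epi hLc.1 hQ.1 (cokernel.π φ) hV m
    obtain ⟨n, rfl⟩ := hW V hVW l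
    refine ⟨1, by rw [X.basicOpen_of_isUnit isUnit_one]; exact hwV, ?_⟩
    rw [one_smul]
    exact congrArg (fun ψ => Scheme.Modules.Hom.app ψ V n) (cokernel.condition φ)
  haveI := (Euler.good_of_dim_le_zero k hQ hdimQ).1 1 le_rfl
  intro y
  exact (CurveCohLib.ker_mapLin_g k hS 1).le
    (LinearMap.mem_ker.2 (Subsingleton.elim (mapLin k (cokernel.π φ) 1 y) 0))

/-- Degree at least `2g - 1` forces `H¹ = 0`. -/
theorem subsingleton_HH_one_of_deg [IsAlgClosed k] (hdim : topologicalKrullDim X ≤ 1) {L : X.Modules}
    (hL : PicF.IsInvertible L) (h : 2 * (Curv2.genus k X : ℤ) - 1 ≤ Curv2.deg k X L 1) :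
    Subsingleton (Coh.HH X L 1) := by
  haveI := CurveCohLib.isNoetherian_of_proper (k := k) (X := X)
  have hLc := CurveDeg.isCoh_of_isInvertible hL
  have hOc := CurveDeg.isCoh_of_isInvertible (CurveDeg.isInvertible_structureModule (X := X))
  haveI := S0002.result k X L hLc 0
  haveI := S0002.result k X L hLc 1
  haveI := S0002.result k X (Coh.structureModule X) hOc 1
  by_cases hg : Curv2.genus k X < Module.finrank k (Coh.HH X L 0)
  · refine subsingleton_of_forall_eq 0 fun y => (Module.forall_dual_apply_eq_zero_iff k y).1 fun l => ?_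
    by_contra hl
    let Ψ : Coh.HH X L 0 →ₗ[k] Module.Dual k (Coh.HH X (Coh.structureModule X) 1) :=
      (LinearMap.compRight k l).comp (mulLin k L 1)
    have hinj : Function.Injective Ψ := (injective_iff_map_eq_zero Ψ).2 fun t ht => by
      by_contra ht0
      obtain ⟨x, rfl⟩ := surjective_mapLin_one k hdim CurveDeg.isInvertible_structureModule hL
        (homOfClass t) (homOfClass_ne_zero ht0) y
      exact hl (LinearMap.congr_fun ht x)
    have := LinearMap.finrank_le_finrank_of_injective hinj
    rw [Subspace.dual_finrank_eq] at this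
    exact absurd this (not_le.2 hg)
  have hχ := CurveRR.euler_eq_h0_sub_h1 k hdim hLc.1
  have hdeg : Curv2.deg k X L 1 = Curv2.euler k X L - (1 - (Curv2.genus k X : ℤ)) := by
    unfold Curv2.deg
    haveI := geometricallyReduced_of_integral k (X := X)
    haveI := S2501.result (X ↘ Spec (CommRingCat.of k))
    rw [CurveRR.euler_eq_h0_sub_h1 k hdim QCoh.isQCoh_structureModule, S1536.result k X]
    unfold Curv2.genus
    push_cast
    ring
  exact Module.finrank_zero_iff.1 (show Module.finrank k (Coh.HH X L 1) = 0 by omega)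

end Groth.Agent.CartExt
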