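import Groth.Agent.CartExt.UfdExt
import Groth.Agent.H23.StalkPrimes
import Groth.Agent.H23.MultCM
import Groth.Agent.H23.StalkIdeal
import Mathlib.RingTheory.DiscreteValuationRing.Basic
import Mathlib.RingTheory.Length

/-! Closed subschemes without embedded points attached to effective cycles of regular codimension one points. -/

set_option autoImplicit false
set_option linter.style.haveILetI false
set_option backward.isDefEq.respectTransparency false
set_option backward.isDefEq.respectTransparency.types false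

universe u

open CategoryTheory AlgebraicGeometry TopologicalSpace

noncomputable section

namespace Groth.Agent.CartExt

open Groth.Agent Groth.Agent.CDiv6 Groth.Agent.H23

variable {X : Scheme.{u}}

theorem ker_subschemeι_stalk (I : X.IdealSheafData) (w : ↥I.subscheme) :
    RingHom.ker (I.subschemeι.stalkMap w).hom = StalkIdeal.sI I (I.subschemeι w) := by
  refine (MultCM.ker_stalkMap_subschemeι I w).trans ?_
  obtain ⟨_, ⟨V, hV, rfl⟩, hzV, -⟩ :=
    X.isBasis_affineOpens.exists_subset_of_mem_open (Set.mem_univ (I.subschemeι w)) isOpen_univ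
  rw [StalkIdeal.sI_eq I ⟨V, hV⟩ hzV, MultCM.stalkIdeal_eq I ⟨V, hV⟩ hzV, CDivEq.stk]

theorem mem_range_of_sI_ne_top (I : X.IdealSheafData) {z : X} (hz : StalkIdeal.sI I z ≠ ⊤) :
    z ∈ Set.range I.subschemeι := by
  rw [I.range_subschemeι]
  obtain ⟨_, ⟨V, hV, rfl⟩, hzV, -⟩ :=
    X.isBasis_affineOpens.exists_subset_of_mem_open (Set.mem_univ z) isOpen_univ
  rw [SetLike.mem_coe, Scheme.IdealSheafData.mem_support_iff_of_mem (U := ⟨V, hV⟩) hzV, Scheme.mem_zeroLocus_iff]
  intro f hf hzf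
  refine hz (Ideal.eq_top_of_isUnit_mem _ ?_ ((Scheme.mem_basicOpen _ _ _ hzV).mp hzf))
  rw [StalkIdeal.sI_eq I ⟨V, hV⟩ hzV]
  exact Ideal.mem_map_of_mem _ hf

theorem sI_ne_top (I : X.IdealSheafData) (w : ↥I.subscheme) : StalkIdeal.sI I (I.subschemeι w) ≠ ⊤ := by
  rw [← ker_subschemeι_stalk]
  exact RingHom.ker_ne_top _

theorem length_stalk_eq (I : X.IdealSheafData) (w : ↥I.subscheme) :
    Module.length (I.subscheme.presheaf.stalk w) (I.subscheme.presheaf.stalk w) =
      Module.length (X.presheaf.stalk (I.subschemeι w))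
        (X.presheaf.stalk (I.subschemeι w) ⧸ StalkIdeal.sI I (I.subschemeι w)) := by
  letI : Algebra (X.presheaf.stalk (I.subschemeι w)) (I.subscheme.presheaf.stalk w) :=
    (I.subschemeι.stalkMap w).hom.toAlgebra
  have hs : Function.Surjective (algebraMap (X.presheaf.stalk (I.subschemeι w)) (I.subscheme.presheaf.stalk w)) :=
    I.subschemeι.stalkMap_surjective w
  have hk : LinearMap.ker (Algebra.linearMap (X.presheaf.stalk (I.subschemeι w)) (I.subscheme.presheaf.stalk w)) =
      StalkIdeal.sI I (I.subschemeι w) := by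
    rw [← ker_subschemeι_stalk]
    rfl
  rw [← Module.length_eq_of_surjective (M := I.subscheme.presheaf.stalk w) hs,
    ← ((Algebra.linearMap (X.presheaf.stalk (I.subschemeι w)) (I.subscheme.presheaf.stalk w)).quotKerEquivOfSurjective hs).length_eq,
    (Submodule.quotEquivOfEq _ _ hk).length_eq]

theorem specializes_of_subschemeι (I : X.IdealSheafData) {w w' : ↥I.subscheme}
    (h : I.subschemeι w ⤳ I.subschemeι w') : w ⤳ w' :=
  I.subschemeι.isEmbedding.isInducing.specializes_iff.1 h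

/-- In a discrete valuation ring an ideal with quotient of finite length `n` is the `n`-th power of the maximal ideal. -/
theorem eq_pow_of_length {A : Type u} [CommRing A] [IsDomain A] [IsDiscreteValuationRing A] (J : Ideal A) (n : ℕ)
    (h : Module.length A (A ⧸ J) = n) : J = IsLocalRing.maximalIdeal A ^ n := by
  obtain ⟨ϖ, hϖ⟩ := IsDiscreteValuationRing.exists_irreducible A
  rcases eq_or_ne J ⊥ with rfl | hJ
  · exfalso
    have h1 : Module.length A (A ⧸ IsLocalRing.maximalIdeal A ^ (n + 1)) ≤ Module.length A (A ⧸ (⊥ : Ideal A)) :=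
      Module.length_le_of_surjective (Submodule.factor (bot_le : (⊥ : Ideal A) ≤ _)) (Submodule.factor_surjective _)
    rw [h, IsDiscreteValuationRing.length_quotient_pow_maximalIdeal, Nat.cast_le] at h1
    omega
  · obtain ⟨m, hm⟩ := IsDiscreteValuationRing.ideal_eq_span_pow_irreducible hJ hϖ
    have hJm : J = IsLocalRing.maximalIdeal A ^ m := by rw [hm, hϖ.maximalIdeal_eq, Ideal.span_singleton_pow]
    rw [hJm, IsDiscreteValuationRing.length_quotient_pow_maximalIdeal, Nat.cast_inj] at h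
    rw [hJm, h]

variable (S : Finset X) (n : X → ℕ)

/-- The ideal of germs vanishing to order `n z` at each point `z` of `S` generalising `x`. -/
def cycleStalk (x : X) : Ideal (X.presheaf.stalk x) :=
  ⨅ z : S, ⨅ h : (z : X) ⤳ x,
    (IsLocalRing.maximalIdeal (X.presheaf.stalk (z : X)) ^ n z).comap (X.presheaf.stalkSpecializes h).hom

/-- The three conditions on the closed subscheme. -/
structure IsCycleSub (I : X.IdealSheafData) : Prop where
  noEmb : ∀ w : ↥I.subscheme, IsAssociatedPrime (IsLocalRing.maximalIdeal (I.subscheme.presheaf.stalk w))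
    (I.subscheme.presheaf.stalk w) → ∀ w' : ↥I.subscheme, w' ⤳ w → w' = w
  maximal_mem : ∀ w : ↥I.subscheme, (∀ w' : ↥I.subscheme, w' ⤳ w → w' = w) → I.subschemeι w ∈ S
  sI_eq : ∀ z ∈ S, StalkIdeal.sI I z = IsLocalRing.maximalIdeal (X.presheaf.stalk z) ^ n z

theorem IsCycleSub.sI_eq_cycleStalk [IsLocallyNoetherian X] {I : X.IdealSheafData} (hI : IsCycleSub S n I)
    (x : X) : StalkIdeal.sI I x = cycleStalk S n x := by
  refine le_antisymm (le_iInf₂ fun z h => ?_) fun c hc => ?_
  · rw [← Ideal.map_le_iff_le_comap, ← StalkIdeal.sI_spec I h, hI.sI_eq z z.2]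
  by_contra hcJ
  set J := StalkIdeal.sI I x with hJ
  obtain ⟨P, hP, hle⟩ := exists_le_isAssociatedPrime_of_isNoetherianRing (X.presheaf.stalk x)
    (Ideal.Quotient.mk J c) (fun h => hcJ (Ideal.Quotient.eq_zero_iff_mem.1 h))
  obtain ⟨hP', d, hd⟩ := isAssociatedPrime_iff.1 hP
  obtain ⟨d, rfl⟩ := Ideal.Quotient.mk_surjective d
  have hcol : ∀ y : X.presheaf.stalk x, (⊥ : Submodule (X.presheaf.stalk x) (X.presheaf.stalk x ⧸ J)).colon
      {Ideal.Quotient.mk J y} = J.colon {y} := fun y => by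
    ext r
    rw [Submodule.mem_colon_singleton, Submodule.mem_colon_singleton, Submodule.mem_bot]
    show Ideal.Quotient.mk J (r * y) = 0 ↔ r * y ∈ J
    exact Ideal.Quotient.eq_zero_iff_mem
  rw [hcol] at hd hle
  haveI := hP'
  obtain ⟨y, hyx, rfl⟩ := StalkPrimes.exists_point P
  letI := (X.presheaf.stalkSpecializes hyx).hom.toAlgebra
  haveI := StalkPrimes.isLocalization_primeOf hyx
  have hJy : StalkIdeal.sI I y = J.map (algebraMap (X.presheaf.stalk x) (X.presheaf.stalk y)) :=
    StalkIdeal.sI_spec I hyx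
  have hcy : algebraMap (X.presheaf.stalk x) (X.presheaf.stalk y) c ∉ StalkIdeal.sI I y := by
    rw [hJy, IsLocalization.algebraMap_mem_map_algebraMap_iff (primeOf hyx).asIdeal.primeCompl]
    rintro ⟨s, hs, hsc⟩
    exact hs (hle (Submodule.mem_colon_singleton.2 hsc))
  have hdy : algebraMap (X.presheaf.stalk x) (X.presheaf.stalk y) d ∉ StalkIdeal.sI I y := by
    rw [hJy, IsLocalization.algebraMap_mem_map_algebraMap_iff (primeOf hyx).asIdeal.primeCompl]
    rintro ⟨s, hs, hsd⟩
    exact hs (hd.ge (Submodule.mem_colon_singleton.2 hsd))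
  have hann : ∀ r ∈ IsLocalRing.maximalIdeal (X.presheaf.stalk y),
      r * algebraMap (X.presheaf.stalk x) (X.presheaf.stalk y) d ∈ StalkIdeal.sI I y := by
    intro r hr
    rw [← IsLocalization.AtPrime.map_eq_maximalIdeal (primeOf hyx).asIdeal (X.presheaf.stalk y)] at hr
    refine (Submodule.mem_colon_singleton (N := StalkIdeal.sI I y)).1
      (Ideal.map_le_iff_le_comap.2 (fun t ht => ?_) hr)
    rw [Ideal.mem_comap, Submodule.mem_colon_singleton, smul_eq_mul, ← map_mul, hJy]
    exact Ideal.mem_map_of_mem _ (Submodule.mem_colon_singleton.1 (hd.le ht))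
  obtain ⟨w, hw⟩ := mem_range_of_sI_ne_top I fun h => hdy (h ▸ Submodule.mem_top)
  have key : ∀ e : X.presheaf.stalk (I.subschemeι w), e ∉ StalkIdeal.sI I (I.subschemeι w) →
      (∀ r ∈ IsLocalRing.maximalIdeal (X.presheaf.stalk (I.subschemeι w)), r * e ∈ StalkIdeal.sI I (I.subschemeι w)) →
      IsAssociatedPrime (IsLocalRing.maximalIdeal (I.subscheme.presheaf.stalk w)) (I.subscheme.presheaf.stalk w) := by
    intro e he hre
    have hs := I.subschemeι.stalkMap_surjective w
    refine ⟨(IsLocalRing.maximalIdeal.isMaximal _).isPrime, I.subschemeι.stalkMap w e, ?_⟩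
    refine le_antisymm (fun r hr => Ideal.le_radical ?_) (IsLocalRing.le_maximalIdeal fun htop => ?_)
    · obtain ⟨r₀, rfl⟩ := hs r
      rw [Submodule.mem_colon_singleton, Submodule.mem_bot, smul_eq_mul, ← map_mul, ← RingHom.mem_ker,
        ker_subschemeι_stalk]
      refine hre _ ?_
      rw [IsLocalRing.mem_maximalIdeal, mem_nonunits_iff] at hr ⊢
      exact fun hu => hr (hu.map _)
    · rw [Ideal.radical_eq_top, Ideal.eq_top_iff_one, Submodule.mem_colon_singleton, Submodule.mem_bot,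
        one_smul, ← RingHom.mem_ker, ker_subschemeι_stalk] at htop
      exact he htop
  subst hw
  have hzS := hI.maximal_mem w (hI.noEmb w (key _ hdy hann))
  rw [hI.sI_eq _ hzS] at hcy
  exact hcy ((Ideal.mem_iInf.1 ((Ideal.mem_iInf.1 hc) ⟨_, hzS⟩)) hyx)

theorem IsCycleSub.unique [IsLocallyNoetherian X] {I I' : X.IdealSheafData} (h : IsCycleSub S n I)
    (h' : IsCycleSub S n I') : I = I' :=
  StalkIdeal.ext_sI fun x => (h.sI_eq_cycleStalk S n x).trans (h'.sI_eq_cycleStalk S n x).symm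

/-- The thickened point. -/
def thickPoint (z : X) (m : ℕ) :
    Spec (CommRingCat.of (X.presheaf.stalk z ⧸ IsLocalRing.maximalIdeal (X.presheaf.stalk z) ^ m)) ⟶ X :=
  Spec.map (CommRingCat.ofHom (Ideal.Quotient.mk _)) ≫ X.fromSpecStalk z

/-- The closed subscheme of the cycle. -/
def cycleSub : X.IdealSheafData := ⨅ z : S, (thickPoint (z : X) (n z)).ker

instance quasiCompact_thickPoint [IsLocallyNoetherian X] [QuasiSeparatedSpace X] (z : X) (m : ℕ) :
    QuasiCompact (thickPoint z m) := inferInstance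

theorem thickPoint_apply (z : X) (m : ℕ) (p) : thickPoint z m p ⤳ z := by
  show (X.fromSpecStalk z) (Spec.map _ p) ⤳ z
  have h : (X.fromSpecStalk z) (Spec.map (CommRingCat.ofHom (Ideal.Quotient.mk
      (IsLocalRing.maximalIdeal (X.presheaf.stalk z) ^ m))) p) ∈ Set.range (X.fromSpecStalk z) := ⟨_, rfl⟩
  rwa [Scheme.range_fromSpecStalk] at h

theorem eq_thickPoint_apply (z : X) (m : ℕ) (p) : thickPoint z m p = z := by
  set q := Spec.map (CommRingCat.ofHom (Ideal.Quotient.mk
    (IsLocalRing.maximalIdeal (X.presheaf.stalk z) ^ m))) p with hq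
  have hle : IsLocalRing.maximalIdeal (X.presheaf.stalk z) ^ m ≤ q.asIdeal := fun r hr => by
    show Ideal.Quotient.mk (IsLocalRing.maximalIdeal (X.presheaf.stalk z) ^ m) r ∈ p.asIdeal
    rw [Ideal.Quotient.eq_zero_iff_mem.2 hr]
    exact p.asIdeal.zero_mem
  have : q = IsLocalRing.closedPoint (X.presheaf.stalk z) := PrimeSpectrum.ext
    (le_antisymm (IsLocalRing.le_maximalIdeal q.isPrime.ne_top) (q.isPrime.le_of_pow_le hle))
  show X.fromSpecStalk z q = z
  rw [this, Scheme.fromSpecStalk_closedPoint]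

theorem ker_thickPoint_ideal [IsLocallyNoetherian X] [QuasiSeparatedSpace X] (z : X) (m : ℕ)
    (V : X.affineOpens) (hz : z ∈ V.1) : (thickPoint z m).ker.ideal V =
      (IsLocalRing.maximalIdeal (X.presheaf.stalk z) ^ m).comap (X.presheaf.germ V.1 z hz).hom := by
  have e : ⊤ ≤ (thickPoint z m) ⁻¹ᵁ V.1 := fun p _ => by
    show thickPoint z m p ∈ V.1
    rw [eq_thickPoint_apply]; exact hz
  have h1 : (thickPoint z m).appLE V.1 ⊤ e = X.presheaf.germ V.1 z hz ≫
      CommRingCat.ofHom (Ideal.Quotient.mk (IsLocalRing.maximalIdeal (X.presheaf.stalk z) ^ m)) ≫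
      (Scheme.ΓSpecIso _).inv := by
    rw [Scheme.ΓSpecIso_inv_naturality]
    have e' : ⊤ ≤ (X.fromSpecStalk z) ⁻¹ᵁ V.1 := fun p _ => by
      have h : X.fromSpecStalk z p ∈ Set.range (X.fromSpecStalk z) := ⟨p, rfl⟩
      rw [Scheme.range_fromSpecStalk] at h
      exact h.mem_open V.1.2 hz
    show (Spec.map (CommRingCat.ofHom (Ideal.Quotient.mk (IsLocalRing.maximalIdeal (X.presheaf.stalk z) ^ m))) ≫
      X.fromSpecStalk z).appLE V.1 ⊤ _ = _
    rw [← Scheme.Hom.appLE_comp_appLE _ _ V.1 ⊤ ⊤ e' (by simp)]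
    have h2 : (X.fromSpecStalk z).appLE V.1 ⊤ e' =
        X.presheaf.germ V.1 z hz ≫ (Scheme.ΓSpecIso (X.presheaf.stalk z)).inv := by
      rw [Scheme.Hom.appLE, Scheme.fromSpecStalk_app hz, Category.assoc, Category.assoc, ← Functor.map_comp]
      erw [(Spec (X.presheaf.stalk z)).presheaf.map_id, Category.comp_id]
    rw [h2, Category.assoc]
    congr 2
  ext r
  rw [Scheme.Hom.ker_apply, RingHom.mem_ker, Ideal.mem_comap]
  have h3 : (thickPoint z m).app V.1 r = 0 ↔ (thickPoint z m).appLE V.1 ⊤ e r = 0 := by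
    rw [Scheme.Hom.appLE, CommRingCat.comp_apply]
    refine ⟨fun h => by rw [h, map_zero], fun h => ?_⟩
    haveI : IsIso ((Spec (CommRingCat.of (X.presheaf.stalk z ⧸ IsLocalRing.maximalIdeal (X.presheaf.stalk z) ^ m))).presheaf.map
        (homOfLE e).op) := by
      rw [show homOfLE e = eqToHom (le_antisymm e le_top) from Subsingleton.elim _ _]
      infer_instance
    exact ((ConcreteCategory.bijective_of_isIso _).1.eq_iff' (map_zero _)).1 h
  show (thickPoint z m).app V.1 r = 0 ↔ _
  rw [h3, h1, CommRingCat.comp_apply, CommRingCat.comp_apply]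
  refine Iff.trans ?_ Ideal.Quotient.eq_zero_iff_mem
  exact (Scheme.ΓSpecIso _).symm.commRingCatIsoToRingEquiv.map_eq_zero_iff

theorem ker_thickPoint_ideal_eq_top [IsLocallyNoetherian X] [QuasiSeparatedSpace X] (z : X) (m : ℕ)
    (V : X.affineOpens) (hz : z ∉ V.1) : (thickPoint z m).ker.ideal V = ⊤ := by
  have e : (thickPoint z m) ⁻¹ᵁ V.1 = ⊥ := by
    ext p
    refine iff_of_false (fun h => hz ?_) id
    have h' : thickPoint z m p ∈ V.1 := h
    rwa [eq_thickPoint_apply] at h'
  rw [eq_top_iff]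
  intro r _
  rw [Scheme.Hom.ker_apply, RingHom.mem_ker]
  haveI : Subsingleton Γ(Spec (CommRingCat.of (X.presheaf.stalk z ⧸ IsLocalRing.maximalIdeal (X.presheaf.stalk z) ^ m)),
      (thickPoint z m) ⁻¹ᵁ V.1) := by
    rw [e]
    exact CommRingCat.subsingleton_of_isTerminal
      (Spec (CommRingCat.of (X.presheaf.stalk z ⧸ IsLocalRing.maximalIdeal (X.presheaf.stalk z) ^ m))).sheaf.isTerminalOfEmpty
  exact Subsingleton.elim _ _

theorem sI_cycleSub [IsLocallyNoetherian X] [QuasiSeparatedSpace X] (x : X) :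
    StalkIdeal.sI (cycleSub S n) x = cycleStalk S n x := by
  obtain ⟨_, ⟨V₀, hV₀, rfl⟩, hxV, -⟩ :=
    X.isBasis_affineOpens.exists_subset_of_mem_open (Set.mem_univ x) isOpen_univ
  let V : X.affineOpens := ⟨V₀, hV₀⟩
  haveI : IsNoetherianRing Γ(X, V.1) := IsLocallyNoetherian.component_noetherian V
  letI : Algebra Γ(X, V.1) (X.presheaf.stalk x) := (X.presheaf.germ V.1 x hxV).hom.toAlgebra
  haveI hlx : IsLocalization.AtPrime (X.presheaf.stalk x) (V.2.primeIdealOf ⟨x, hxV⟩).asIdeal :=
    V.2.isLocalization_stalk ⟨x, hxV⟩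
  have hid : (cycleSub S n).ideal V = ⨅ z : S, (thickPoint (z : X) (n z)).ker.ideal V := by
    rw [cycleSub, Scheme.IdealSheafData.ideal_iInf]
    exact iInf_apply
  rw [StalkIdeal.sI_eq _ V hxV, CDivEq.stk, hid, cycleStalk]
  show Ideal.map (algebraMap Γ(X, V.1) (X.presheaf.stalk x)) _ = _
  haveI : Fintype S := Finset.Subtype.fintype S
  rw [map_iInf_of_isLocalization (V.2.primeIdealOf ⟨x, hxV⟩).asIdeal.primeCompl]
  refine iInf_congr fun z => ?_
  by_cases hzx : (z : X) ⤳ x
  · rw [ker_thickPoint_ideal _ _ V (hzx.mem_open V.1.2 hxV), iInf_pos hzx]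
    have : X.presheaf.germ V.1 (z : X) (hzx.mem_open V.1.2 hxV) =
        X.presheaf.germ V.1 x hxV ≫ X.presheaf.stalkSpecializes hzx :=
      (X.presheaf.germ_stalkSpecializes hxV hzx).symm
    rw [this, CommRingCat.hom_comp, ← Ideal.comap_comap]
    exact IsLocalization.map_under (V.2.primeIdealOf ⟨x, hxV⟩).asIdeal.primeCompl (X.presheaf.stalk x) _
  · rw [iInf_neg hzx]
    by_cases hzV : (z : X) ∈ V.1
    swap
    · rw [ker_thickPoint_ideal_eq_top _ _ V hzV, Ideal.map_top]
    obtain ⟨t, ht, htx⟩ : ∃ t ∈ (V.2.primeIdealOf ⟨z, hzV⟩).asIdeal, t ∉ (V.2.primeIdealOf ⟨x, hxV⟩).asIdeal := by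
      refine SetLike.not_le_iff_exists.1 fun hle => hzx ?_
      have := ((PrimeSpectrum.le_iff_specializes _ _).1 hle).map V.2.fromSpec.continuous
      rwa [V.2.fromSpec_primeIdealOf, V.2.fromSpec_primeIdealOf] at this
    rw [ker_thickPoint_ideal _ _ V hzV]
    refine Ideal.eq_top_of_isUnit_mem _ (Ideal.mem_map_of_mem _ (?_ : t ^ n z ∈ _))
      ((IsLocalization.map_units (X.presheaf.stalk x)
        (⟨t, htx⟩ : (V.2.primeIdealOf ⟨x, hxV⟩).asIdeal.primeCompl)).pow (n z) |> fun h => by rwa [map_pow])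
    rw [Ideal.mem_comap, map_pow]
    refine Ideal.pow_mem_pow ?_ _
    letI : Algebra Γ(X, V.1) (X.presheaf.stalk (z : X)) := (X.presheaf.germ V.1 z hzV).hom.toAlgebra
    haveI := V.2.isLocalization_stalk ⟨(z : X), hzV⟩
    exact (IsLocalization.AtPrime.to_map_mem_maximal_iff (X.presheaf.stalk (z : X))
      (V.2.primeIdealOf ⟨z, hzV⟩).asIdeal t).2 ht

theorem isCycleSub_cycleSub [IsLocallyNoetherian X] [QuasiSeparatedSpace X]
    (hS : ∀ z ∈ S, ∀ z' ∈ S, z ⤳ z' → z = z') (hn : ∀ z ∈ S, n z ≠ 0) :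
    IsCycleSub S n (cycleSub S n) := by
  have hsI : ∀ z ∈ S, StalkIdeal.sI (cycleSub S n) z = IsLocalRing.maximalIdeal (X.presheaf.stalk z) ^ n z := by
    intro z hz
    rw [sI_cycleSub]
    refine le_antisymm ?_ (le_iInf₂ fun z' h => ?_)
    · refine (iInf₂_le (⟨z, hz⟩ : S) (specializes_refl z)).trans (le_of_eq ?_)
      rw [TopCat.Presheaf.stalkSpecializes_refl]
      exact Ideal.comap_id _
    · obtain ⟨z', hz'⟩ := z'
      obtain rfl := hS z' hz' z hz h
      rw [TopCat.Presheaf.stalkSpecializes_refl]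
      exact (Ideal.comap_id _).ge
  refine ⟨fun w hw => ?_, fun w hw => ?_, hsI⟩
  · obtain ⟨-, e, he⟩ := hw
    obtain ⟨e, rfl⟩ := (cycleSub S n).subschemeι.stalkMap_surjective w e
    have hex : ∃ z : S, ∃ h : (z : X) ⤳ (cycleSub S n).subschemeι w,
        e ∉ (IsLocalRing.maximalIdeal (X.presheaf.stalk (z : X)) ^ n z).comap (X.presheaf.stalkSpecializes h).hom := by
      by_contra! hc
      have : e ∈ StalkIdeal.sI (cycleSub S n) ((cycleSub S n).subschemeι w) := by
        rw [sI_cycleSub]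
        exact Ideal.mem_iInf.2 fun z => Ideal.mem_iInf.2 fun h => hc z h
      rw [← ker_subschemeι_stalk, RingHom.mem_ker] at this
      exact (IsLocalRing.maximalIdeal.isMaximal _).ne_top (by
        rw [he, Ideal.radical_eq_top, Ideal.eq_top_iff_one, Submodule.mem_colon_singleton, one_smul, Submodule.mem_bot]
        exact this)
    obtain ⟨z, hzw, hez⟩ := hex
    have hzeq : (z : X) = (cycleSub S n).subschemeι w := by
      by_contra hne
      obtain ⟨t, htm, ht⟩ : ∃ t ∈ IsLocalRing.maximalIdeal (X.presheaf.stalk ((cycleSub S n).subschemeι w)),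
          IsUnit (X.presheaf.stalkSpecializes hzw t) := by
        have hnle : ¬ IsLocalRing.maximalIdeal (X.presheaf.stalk ((cycleSub S n).subschemeι w)) ≤
            (primeOf hzw).asIdeal := fun hle => by
          refine hne (((StalkPrimes.primeOf_le_iff hzw (specializes_refl _)).1 ?_).antisymm hzw).eq.symm
          exact (IsLocalRing.le_maximalIdeal (Ideal.IsPrime.ne_top (primeOf (specializes_refl _)).2)).trans hle
        obtain ⟨t, ht, htP⟩ := SetLike.not_le_iff_exists.1 hnle
        exact ⟨t, ht, not_not.1 fun hu => htP ((mem_primeOf hzw t).2 hu)⟩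
      have hmem : (cycleSub S n).subschemeι.stalkMap w t ∈
          IsLocalRing.maximalIdeal ((cycleSub S n).subscheme.presheaf.stalk w) := by
        rw [IsLocalRing.mem_maximalIdeal, mem_nonunits_iff] at htm ⊢
        exact fun hu => htm (isUnit_of_map_unit ((cycleSub S n).subschemeι.stalkMap w).hom t hu)
      rw [he] at hmem
      obtain ⟨k, hk⟩ := hmem
      rw [Submodule.mem_colon_singleton, Submodule.mem_bot, smul_eq_mul, ← map_pow, ← map_mul, ← RingHom.mem_ker,
        ker_subschemeι_stalk, sI_cycleSub] at hk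
      refine hez ?_
      have hk' := Ideal.mem_iInf.1 (Ideal.mem_iInf.1 hk z) hzw
      rw [Ideal.mem_comap, map_mul, map_pow] at hk'
      exact (Ideal.unit_mul_mem_iff_mem _ (ht.pow k)).1 hk'
    intro w' hw'
    have hw'x : (cycleSub S n).subschemeι w' ⤳ (cycleSub S n).subschemeι w := hw'.map (cycleSub S n).subschemeι.continuous
    obtain ⟨z', hz'w', -⟩ : ∃ z' : S, ∃ _ : (z' : X) ⤳ (cycleSub S n).subschemeι w', True := by
      by_contra! hc
      refine sI_ne_top (cycleSub S n) w' ?_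
      rw [sI_cycleSub, cycleStalk, iInf₂_eq_top]
      exact fun z' h => (hc z' h).elim
    have h1 : (z' : X) = z := hS z' z'.2 z z.2 (hzeq ▸ hz'w'.trans hw'x)
    refine (cycleSub S n).subschemeι.isEmbedding.injective ?_
    exact ((hw'x).antisymm (hzeq ▸ h1 ▸ hz'w')).eq
  · obtain ⟨z', hz'w, -⟩ : ∃ z' : S, ∃ _ : (z' : X) ⤳ (cycleSub S n).subschemeι w, True := by
      by_contra! hc
      refine sI_ne_top (cycleSub S n) w ?_
      rw [sI_cycleSub, cycleStalk, iInf₂_eq_top]
      exact fun z' h => (hc z' h).elim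
    obtain ⟨w', hw'⟩ := mem_range_of_sI_ne_top (cycleSub S n) (z := (z' : X)) (by
      rw [hsI z' z'.2]
      exact fun h => (IsLocalRing.maximalIdeal.isMaximal _).ne_top (top_le_iff.1 (h ▸ Ideal.pow_le_self (hn z' z'.2))))
    rw [← hw'] at hz'w
    obtain rfl := hw w' (specializes_of_subschemeι _ hz'w)
    rw [hw']
    exact z'.2

/-- Points with discrete valuation rings as local rings do not specialise to each other. -/
theorem eq_of_specializes_of_dvr {z z' : X} (h : z ⤳ z') [IsDomain (X.presheaf.stalk z')]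
    [IsDiscreteValuationRing (X.presheaf.stalk z')] (hz : ¬ IsField (X.presheaf.stalk z)) : z = z' := by
  by_contra hne
  have hP : (primeOf h).asIdeal = ⊥ := by
    by_contra hP
    refine hne ?_
    have h1 : (primeOf h).asIdeal = IsLocalRing.maximalIdeal (X.presheaf.stalk z') :=
      IsLocalRing.eq_maximalIdeal ((primeOf h).2.isMaximal hP)
    refine (((StalkPrimes.primeOf_le_iff h (specializes_refl _)).1 ?_).antisymm h).eq.symm
    rw [h1]
    exact IsLocalRing.le_maximalIdeal (Ideal.IsPrime.ne_top (primeOf (specializes_refl _)).2)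
  letI := (X.presheaf.stalkSpecializes h).hom.toAlgebra
  haveI := StalkPrimes.isLocalization_primeOf h
  refine hz ?_
  haveI : IsFractionRing (X.presheaf.stalk z') (X.presheaf.stalk z) :=
    IsLocalization.of_le_of_exists_dvd (primeOf h).asIdeal.primeCompl _
      (fun r hr => mem_nonZeroDivisors_of_ne_zero fun h0 => hr (h0 ▸ (primeOf h).asIdeal.zero_mem))
      fun r hr => ⟨r, fun hr' => nonZeroDivisors.ne_zero hr (by rw [hP] at hr'; exact hr'), dvd_rfl⟩
  exact (IsFractionRing.toField (A := X.presheaf.stalk z')).toIsField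

/-- The cycle determines a unique closed subscheme without embedded points. -/
theorem existsUnique_cycleSub [IsLocallyNoetherian X] [QuasiSeparatedSpace X] (W : X → ℤ)
    (hfin : {x | W x ≠ 0}.Finite) (hpos : ∀ x, 0 ≤ W x)
    (hreg : ∀ x, W x ≠ 0 → ∃ _ : IsDomain ↑(X.presheaf.stalk x), IsDiscreteValuationRing ↑(X.presheaf.stalk x)) :
    ∃! 𝓘 : X.IdealSheafData,
      (∀ z : ↥𝓘.subscheme,
        IsAssociatedPrime (IsLocalRing.maximalIdeal ↑(𝓘.subscheme.presheaf.stalk z))
          ↑(𝓘.subscheme.presheaf.stalk z) → ∀ z' : ↥𝓘.subscheme, z' ⤳ z → z' = z) ∧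
      (∀ z : ↥𝓘.subscheme, (∀ z' : ↥𝓘.subscheme, z' ⤳ z → z' = z) →
        Module.length ↑(𝓘.subscheme.presheaf.stalk z) ↑(𝓘.subscheme.presheaf.stalk z) =
          ((W (𝓘.subschemeι.base z)).toNat : ℕ∞)) ∧
      (∀ x : X, W x ≠ 0 → ∃ z : ↥𝓘.subscheme, 𝓘.subschemeι.base z = x ∧
        ∀ z' : ↥𝓘.subscheme, z' ⤳ z → z' = z) := by
  classical
  let S := hfin.toFinset
  let n : X → ℕ := fun x => (W x).toNat
  have hSmem : ∀ x, x ∈ S ↔ W x ≠ 0 := fun x => hfin.mem_toFinset
  have hn : ∀ z ∈ S, n z ≠ 0 := fun z hz => by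
    have h1 := (hSmem z).1 hz
    have h2 := hpos z
    simp only [n]; omega
  have hS : ∀ z ∈ S, ∀ z' ∈ S, z ⤳ z' → z = z' := fun z hz z' hz' h => by
    obtain ⟨_, _⟩ := hreg z' ((hSmem z').1 hz')
    refine eq_of_specializes_of_dvr h ?_
    obtain ⟨_, _⟩ := hreg z ((hSmem z).1 hz)
    exact IsDiscreteValuationRing.not_isField _
  have hmain := isCycleSub_cycleSub S n hS hn
  refine ⟨cycleSub S n, ⟨hmain.noEmb, fun w hw => ?_, fun x hx => ?_⟩, fun I ⟨h1, h2, h3⟩ => ?_⟩
  · have hS' := hmain.maximal_mem w hw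
    obtain ⟨_, _⟩ := hreg _ ((hSmem _).1 hS')
    rw [length_stalk_eq, hmain.sI_eq _ hS', IsDiscreteValuationRing.length_quotient_pow_maximalIdeal]
  · have hxS := (hSmem x).2 hx
    obtain ⟨w, hw⟩ := mem_range_of_sI_ne_top (cycleSub S n) (z := x) (by
      rw [hmain.sI_eq x hxS]
      exact fun h => (IsLocalRing.maximalIdeal.isMaximal _).ne_top (top_le_iff.1 (h ▸ Ideal.pow_le_self (hn x hxS))))
    refine ⟨w, hw, fun w' hw' => (cycleSub S n).subschemeι.isEmbedding.injective ?_⟩
    have hw'x : (cycleSub S n).subschemeι w' ⤳ x := hw ▸ hw'.map (cycleSub S n).subschemeι.continuous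
    obtain ⟨z', hz'w', -⟩ : ∃ z' : S, ∃ _ : (z' : X) ⤳ (cycleSub S n).subschemeι w', True := by
      by_contra! hc
      refine sI_ne_top (cycleSub S n) w' ?_
      rw [sI_cycleSub, cycleStalk, iInf₂_eq_top]
      exact fun z' h => (hc z' h).elim
    have he : (z' : X) = x := hS z' z'.2 x hxS (hz'w'.trans hw'x)
    rw [hw]
    exact (hw'x.antisymm (he ▸ hz'w')).eq
  · refine IsCycleSub.unique S n ⟨h1, fun w hw => ?_, fun z hz => ?_⟩ hmain
    · rw [hSmem]
      intro h0
      have := h2 w hw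
      rw [h0] at this
      have hpos' : Module.length (I.subscheme.presheaf.stalk w) (I.subscheme.presheaf.stalk w) ≠ 0 :=
        Module.length_pos.ne'
      exact hpos' (by simpa using this)
    · obtain ⟨w, hw, hmax⟩ := h3 z ((hSmem z).1 hz)
      subst hw
      obtain ⟨_, _⟩ := hreg _ ((hSmem _).1 hz)
      refine eq_pow_of_length _ _ ?_
      rw [← length_stalk_eq]
      exact h2 w hmax

end Groth.Agent.CartExt
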