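import Groth.Agent.CartExt.Cartier

/-!
# Extensions of a section of an affine morphism over a Cartier divisor
-/

set_option autoImplicit false
universe u

open CategoryTheory CategoryTheory.Limits AlgebraicGeometry TopologicalSpace Opposite

namespace Groth.Agent.CartExt

variable {P Y : Scheme.{u}} (I : P.IdealSheafData) (p : Y ⟶ P) {Q : P.Opens} (s : (Q : Scheme.{u}) ⟶ Y)

/-- `J n`: the functions `b` with `b = t ^ n s(a)` off the divisor for some `a`. -/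
noncomputable def Jn (n : ℕ) : P.IdealSheafData :=
  ((s.ker ⊔ (I.comap p) ^ n).subschemeι ≫ p).ker

/-- `f` is a morphism over `P` extending the pullback of `s`. -/
def IsExt {P' : Scheme.{u}} (φ : P' ⟶ P) (f : P' ⟶ Y) : Prop :=
  f ≫ p = φ ∧ (φ ⁻¹ᵁ Q).ι ≫ f = (φ ∣_ Q) ≫ s

/-- The pullbacks of the elements of all `J n` are divisible by the `n`-th power. -/
def Cond {P' : Scheme.{u}} (φ : P' ⟶ P) (n : ℕ) : Prop :=
  ∀ (g : GoodAff I) (W' : P'.affineOpens) (h : W'.1 ≤ φ ⁻¹ᵁ g.W.1), ∀ b ∈ (Jn I p s n).ideal g.W,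
    φ.appLE g.W.1 W'.1 h b ∈ ((I ^ n).ideal g.W).map (φ.appLE g.W.1 W'.1 h).hom

variable {I p s}

theorem top_le_sigma (hs : s ≫ p = Q.ι) (U : P.Opens) :
    ⊤ ≤ (P.homOfLE (inf_le_right : U ⊓ Q ≤ Q) ≫ s) ⁻¹ᵁ (p ⁻¹ᵁ U) := by
  intro x _
  show ((P.homOfLE (inf_le_right : U ⊓ Q ≤ Q) ≫ s) ≫ p) x ∈ U
  rw [Category.assoc, hs, Scheme.homOfLE_ι]
  exact x.2.1

/-- The ring map induced by `s`. -/
noncomputable def sigma (hs : s ≫ p = Q.ι) (U : P.Opens) : Γ(Y, p ⁻¹ᵁ U) ⟶ Γ(P, U ⊓ Q) :=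
  gam (P.homOfLE inf_le_right ≫ s) (p ⁻¹ᵁ U) (top_le_sigma hs U)

variable (hs : s ≫ p = Q.ι)

theorem sigma_p (U : P.Opens) (b : Γ(P, U)) :
    sigma hs U (p.app U b) = P.presheaf.map (homOfLE (inf_le_left : U ⊓ Q ≤ U)).op b := by
  have e : (P.homOfLE (inf_le_right : U ⊓ Q ≤ Q) ≫ s) ≫ p = (U ⊓ Q).ι ≫ 𝟙 P := by
    rw [Category.assoc, hs, Scheme.homOfLE_ι, Category.comp_id]
  have h : ⊤ ≤ ((P.homOfLE (inf_le_right : U ⊓ Q ≤ Q) ≫ s) ≫ p) ⁻¹ᵁ U := top_le_sigma hs U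
  have h1 := gam_comp _ p (le_refl (p ⁻¹ᵁ U)) (top_le_sigma hs U) h
  rw [gam_congr e U h, gam_ι (Z := U ⊓ Q) (𝟙 P) U _ inf_le_left, ← Scheme.Hom.app_eq_appLE] at h1
  have h2 := ConcreteCategory.congr_hom h1 b
  rw [CommRingCat.comp_apply] at h2
  refine h2.symm.trans ?_
  simp only [Scheme.Hom.appLE]
  rfl

theorem map_injective_of_eq {U V : P.Opens} (e : V = U) (i : V ≤ U) :
    Function.Injective (P.presheaf.map (homOfLE i).op) := by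
  subst e
  intro a b h
  simpa using h

theorem sigma_eq_zero_iff (U : P.Opens) (a : Γ(Y, p ⁻¹ᵁ U)) :
    sigma hs U a = 0 ↔ s.app (p ⁻¹ᵁ U) a = 0 := by
  have e : s ⁻¹ᵁ p ⁻¹ᵁ U = Q.ι ⁻¹ᵁ U := by rw [← Scheme.Hom.comp_preimage, hs]
  have e' : U ⊓ Q = Q.ι ''ᵁ (s ⁻¹ᵁ p ⁻¹ᵁ U) := by
    rw [e, Scheme.Hom.image_preimage_eq_opensRange_inf, Scheme.Opens.opensRange_ι, inf_comm]
  have h : sigma hs U = s.app (p ⁻¹ᵁ U) ≫ P.presheaf.map (homOfLE e'.le).op := by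
    have h1 : ⊤ ≤ (P.homOfLE (inf_le_right : U ⊓ Q ≤ Q)) ⁻¹ᵁ (s ⁻¹ᵁ p ⁻¹ᵁ U) := fun x _ => top_le_sigma hs U trivial
    rw [sigma, gam_comp _ s (le_refl (s ⁻¹ᵁ p ⁻¹ᵁ U)) h1, ← Scheme.Hom.app_eq_appLE]
    refine congrArg (s.app (p ⁻¹ᵁ U) ≫ ·) ?_
    rw [gam, Scheme.homOfLE_appLE, Scheme.Opens.topIso_hom]
    erw [← Functor.map_comp]
    rfl
  rw [h]
  show P.presheaf.map (homOfLE e'.le).op (s.app (p ⁻¹ᵁ U) a) = 0 ↔ _
  exact map_eq_zero_iff (P.presheaf.map (homOfLE e'.le).op).hom (map_injective_of_eq e' _)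

theorem res_appLE {P' : Scheme.{u}} (φ : P' ⟶ P) {U U₀ : P.Opens} {W W₀ : P'.Opens} (iU : U₀ ≤ U) (iW : W₀ ≤ W)
    (h : W ≤ φ ⁻¹ᵁ U) (h₀ : W₀ ≤ φ ⁻¹ᵁ U₀) (b : Γ(P, U)) :
    φ.appLE U₀ W₀ h₀ (P.presheaf.map (homOfLE iU).op b) = P'.presheaf.map (homOfLE iW).op (φ.appLE U W h b) := by
  rw [← CommRingCat.comp_apply, ← CommRingCat.comp_apply, Scheme.Hom.map_appLE, Scheme.Hom.appLE_map]

variable [IsAffineHom p]

theorem mem_Jn_iff (hI : BlowUp.IsEffCartierIdeal I) (hQ : Q = I.support.compl) (g : GoodAff I) (n : ℕ)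
    (b : Γ(P, g.W.1)) :
    b ∈ (Jn I p s n).ideal g.W ↔ ∃ a, P.presheaf.map (homOfLE (inf_le_left : g.W.1 ⊓ Q ≤ g.W.1)).op b =
      sigma hs g.W.1 a * P.presheaf.map (homOfLE (inf_le_left : g.W.1 ⊓ Q ≤ g.W.1)).op g.t ^ n := by
  haveI : IsAffineHom Q.ι := isAffineHom_compl hI hQ
  haveI : IsAffineHom (s ≫ p) := by rw [hs]; infer_instance
  haveI : IsAffineHom s := IsAffineHom.of_comp s p
  let U : Y.affineOpens := ⟨p ⁻¹ᵁ g.W.1, g.W.2.preimage p⟩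
  rw [Jn, Scheme.Hom.ker_apply, Scheme.Hom.comp_app]
  erw [CommRingCat.hom_comp, ← RingHom.comap_ker, (s.ker ⊔ (I.comap p) ^ n).ker_subschemeι_app U]
  rw [Scheme.IdealSheafData.ideal_sup, Pi.sup_apply,
    Scheme.IdealSheafData.ideal_pow, Pi.pow_apply, Scheme.Hom.ker_apply,
    ModPairLib.ideal_comap I p g.W U le_rfl, g.ideal_eq, Ideal.map_span, Set.image_singleton,
    Ideal.span_singleton_pow, Ideal.mem_comap, ← Scheme.Hom.app_eq_appLE]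
  constructor
  · intro h
    obtain ⟨k, hk, m, hm, hkm⟩ := Submodule.mem_sup.1 h
    obtain ⟨a, rfl⟩ := Ideal.mem_span_singleton'.1 hm
    refine ⟨a, ?_⟩
    rw [← sigma_p hs, ← sigma_p hs, ← map_pow, ← map_mul]
    refine (congrArg (sigma hs g.W.1) hkm.symm).trans ?_
    rw [map_add, (sigma_eq_zero_iff hs g.W.1 k).2 hk, zero_add]
  · rintro ⟨a, ha⟩
    refine Submodule.mem_sup.2 ⟨p.app g.W.1 b - a * p.app g.W.1 g.t ^ n, ?_, a * p.app g.W.1 g.t ^ n,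
      Ideal.mem_span_singleton'.2 ⟨a, rfl⟩, sub_add_cancel _ _⟩
    refine (sigma_eq_zero_iff hs g.W.1 _).1 ?_
    rw [map_sub, map_mul, map_pow, sigma_p, sigma_p, ha, sub_self]

variable {P' : Scheme.{u}} (φ : P' ⟶ P)

omit [IsAffineHom p] in
theorem basicOpen_appLE_eq (hQ : Q = I.support.compl) (g : GoodAff I) (W' : P'.Opens)
    (h : W' ≤ φ ⁻¹ᵁ g.W.1) : W' ⊓ φ ⁻¹ᵁ Q = P'.basicOpen (φ.appLE g.W.1 W' h g.t) := by
  rw [Scheme.basicOpen_appLE, ← inf_eq_basicOpen hQ g]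
  ext x
  exact ⟨fun hx => ⟨hx.1, h hx.1, hx.2⟩, fun hx => ⟨hx.1, hx.2.2⟩⟩

include hs in
theorem uniq (hI : BlowUp.IsEffCartierIdeal I) (hQ : Q = I.support.compl)
    (hC : BlowUp.IsEffCartierIdeal (I.comap φ)) {O : P'.Opens} (u v : (O : Scheme.{u}) ⟶ Y)
    (hu : u ≫ p = O.ι ≫ φ) (hv : v ≫ p = O.ι ≫ φ)
    (h : P'.homOfLE (inf_le_left : O ⊓ φ ⁻¹ᵁ Q ≤ O) ≫ u = P'.homOfLE (inf_le_left : O ⊓ φ ⁻¹ᵁ Q ≤ O) ≫ v) :
    u = v := by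
  refine hom_ext_of_le u v fun x hx => ?_
  obtain ⟨g, hxg, -⟩ := exists_good_le hI ⊤ (φ x) (Opens.mem_top _)
  obtain ⟨W', hW', hxW', hle⟩ := exists_isAffineOpen_mem_and_subset (X := P') (x := x) (U := O ⊓ φ ⁻¹ᵁ g.W.1)
    ⟨hx, hxg⟩
  have hO : W' ≤ O := fun z hz => (hle hz).1
  have hW : W' ≤ φ ⁻¹ᵁ g.W.1 := fun z hz => (hle hz).2
  have hr : ∀ (w : (O : Scheme.{u}) ⟶ Y), w ≫ p = O.ι ≫ φ →
      ⊤ ≤ (P'.homOfLE hO ≫ w) ⁻¹ᵁ (p ⁻¹ᵁ g.W.1) := by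
    intro w hw z _
    show ((P'.homOfLE hO ≫ w) ≫ p) z ∈ g.W.1
    rw [Category.assoc, hw, Scheme.homOfLE_ι_assoc]
    exact hW z.2
  refine ⟨W', hO, hxW', gam_ext hW' (g.W.2.preimage p) _ _ (hr u hu) (hr v hv) ?_⟩
  let W'' := W' ⊓ φ ⁻¹ᵁ Q
  have i : W'' ≤ O ⊓ φ ⁻¹ᵁ Q := inf_le_inf_right _ hO
  have e : P'.homOfLE (inf_le_left : W'' ≤ W') ≫ P'.homOfLE hO ≫ u =
      P'.homOfLE (inf_le_left : W'' ≤ W') ≫ P'.homOfLE hO ≫ v := by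
    rw [← Category.assoc, ← Category.assoc, Scheme.homOfLE_homOfLE,
      ← P'.homOfLE_homOfLE i inf_le_left, Category.assoc, Category.assoc, h]
  have hu' : ⊤ ≤ (P'.homOfLE (inf_le_left : W'' ≤ W') ≫ P'.homOfLE hO ≫ u) ⁻¹ᵁ (p ⁻¹ᵁ g.W.1) :=
    fun z _ => hr u hu trivial
  refine CommRingCat.hom_ext (RingHom.ext fun a => ?_)
  refine res_injective hW' inf_le_left (basicOpen_appLE_eq φ hQ g W' hW) (appLE_nzd φ hC g ⟨W', hW'⟩ hW) ?_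
  show (gam _ _ (hr u hu) ≫ P'.presheaf.map _) a = (gam _ _ (hr v hv) ≫ P'.presheaf.map _) a
  rw [← gam_res (inf_le_left : W'' ≤ W') (P'.homOfLE hO ≫ u) _ hu' (hr u hu),
    ← gam_res (inf_le_left : W'' ≤ W') (P'.homOfLE hO ≫ v) _ (e ▸ hu') (hr v hv), gam_congr e]

theorem appLE_of_isExt {f : P' ⟶ Y} (hf : IsExt p s φ f) (U : P.Opens) {W : P'.Opens}
    (hW : W ≤ φ ⁻¹ᵁ (U ⊓ Q)) (hW' : W ≤ f ⁻¹ᵁ p ⁻¹ᵁ U) :
    f.appLE (p ⁻¹ᵁ U) W hW' = sigma hs U ≫ φ.appLE (U ⊓ Q) W hW := by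
  have hWQ : W ≤ φ ⁻¹ᵁ Q := fun z hz => (hW hz).2
  have e : W.ι ≫ f = φ.resLE (U ⊓ Q) W hW ≫ P.homOfLE inf_le_right ≫ s := by
    rw [Scheme.Hom.resLE_map_assoc, ← Scheme.homOfLE_ι P' hWQ, Category.assoc, hf.2,
      ← Scheme.Hom.resLE_eq_morphismRestrict, Scheme.Hom.map_resLE_assoc]
  have h : ⊤ ≤ (W.ι ≫ f) ⁻¹ᵁ (p ⁻¹ᵁ U) := fun z _ => hW' z.2
  rw [← gam_ι f _ h hW', gam_congr e _ h, gam_resLE φ hW _ _ _ (top_le_sigma hs U)]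
  rfl

include hs in
theorem cond_of_isExt (hI : BlowUp.IsEffCartierIdeal I) (hQ : Q = I.support.compl)
    (hC : BlowUp.IsEffCartierIdeal (I.comap φ)) {f : P' ⟶ Y} (hf : IsExt p s φ f) (n : ℕ) : Cond I p s φ n := by
  intro g W' h b hb
  obtain ⟨a, ha⟩ := (mem_Jn_iff hs hI hQ g n b).1 hb
  have hW' : W'.1 ≤ f ⁻¹ᵁ p ⁻¹ᵁ g.W.1 := by
    rw [← Scheme.Hom.comp_preimage, hf.1]; exact h
  have hW'' : W'.1 ⊓ φ ⁻¹ᵁ Q ≤ φ ⁻¹ᵁ (g.W.1 ⊓ Q) := fun z hz => ⟨h hz.1, hz.2⟩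
  rw [Scheme.IdealSheafData.ideal_pow, Pi.pow_apply, g.ideal_eq, Ideal.span_singleton_pow, Ideal.map_span,
    Set.image_singleton, map_pow, Ideal.mem_span_singleton']
  refine ⟨f.appLE (p ⁻¹ᵁ g.W.1) W'.1 hW' a, ?_⟩
  refine res_injective W'.2 inf_le_left (basicOpen_appLE_eq φ hQ g W'.1 h) (appLE_nzd φ hC g W' h) ?_
  rw [← res_appLE φ inf_le_left inf_le_left h hW'' b, ha, map_mul, map_mul, map_pow, map_pow,
    res_appLE φ inf_le_left inf_le_left h hW'' g.t,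
    ← CommRingCat.comp_apply (f.appLE _ W'.1 hW'), Scheme.Hom.appLE_map,
    appLE_of_isExt hs φ hf g.W.1 hW'', CommRingCat.comp_apply]

variable {φ}

theorem exists_lift (hI : BlowUp.IsEffCartierIdeal I) (hQ : Q = I.support.compl)
    (hcond : ∀ n, Cond I p s φ n) (g : GoodAff I) (W' : P'.affineOpens) (h : W'.1 ≤ φ ⁻¹ᵁ g.W.1)
    (a : Γ(Y, p ⁻¹ᵁ g.W.1)) :
    ∃ c, P'.presheaf.map (homOfLE (inf_le_left : W'.1 ⊓ φ ⁻¹ᵁ Q ≤ W'.1)).op c =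
      φ.appLE (g.W.1 ⊓ Q) (W'.1 ⊓ φ ⁻¹ᵁ Q) (fun _ hz => ⟨h hz.1, hz.2⟩) (sigma hs g.W.1 a) := by
  obtain ⟨n, b, hb⟩ := exists_pow_mul_eq g.W.2 inf_le_left (inf_eq_basicOpen hQ g) (sigma hs g.W.1 a)
  have h1 := hcond n g W' h b ((mem_Jn_iff hs hI hQ g n b).2 ⟨a, by rw [← hb, mul_comm]⟩)
  rw [Scheme.IdealSheafData.ideal_pow, Pi.pow_apply, g.ideal_eq, Ideal.span_singleton_pow, Ideal.map_span,
    Set.image_singleton, Ideal.mem_span_singleton'] at h1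
  obtain ⟨c, hc⟩ := h1
  have hW'' : W'.1 ⊓ φ ⁻¹ᵁ Q ≤ φ ⁻¹ᵁ (g.W.1 ⊓ Q) := fun z hz => ⟨h hz.1, hz.2⟩
  refine ⟨c, ((isUnit_res W'.2 inf_le_left (basicOpen_appLE_eq φ hQ g W'.1 h)).pow n).mul_left_cancel ?_⟩
  have key := congrArg (φ.appLE (g.W.1 ⊓ Q) (W'.1 ⊓ φ ⁻¹ᵁ Q) hW'') hb
  rw [map_mul, map_pow, res_appLE φ inf_le_left inf_le_left h hW'' g.t,
    res_appLE φ inf_le_left inf_le_left h hW'' b, ← hc, map_mul, map_pow, map_pow] at key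
  rw [mul_comm]
  exact key.symm

include hs in
theorem exists_piece (hI : BlowUp.IsEffCartierIdeal I) (hQ : Q = I.support.compl)
    (hC : BlowUp.IsEffCartierIdeal (I.comap φ)) (hcond : ∀ n, Cond I p s φ n) (g : GoodAff I)
    (W' : P'.affineOpens) (h : W'.1 ≤ φ ⁻¹ᵁ g.W.1) :
    ∃ v : (W'.1 : Scheme.{u}) ⟶ Y, v ≫ p = W'.1.ι ≫ φ ∧
      P'.homOfLE (inf_le_left : W'.1 ⊓ φ ⁻¹ᵁ Q ≤ W'.1) ≫ v = φ.resLE Q (W'.1 ⊓ φ ⁻¹ᵁ Q) inf_le_right ≫ s := by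
  have he := basicOpen_appLE_eq φ hQ g W'.1 h
  have inj := res_injective W'.2 (inf_le_left : W'.1 ⊓ φ ⁻¹ᵁ Q ≤ W'.1) he (appLE_nzd φ hC g W' h)
  choose c hc using exists_lift hs hI hQ hcond g W' h
  let ψ : Γ(Y, p ⁻¹ᵁ g.W.1) ⟶ Γ(P', W'.1) := CommRingCat.ofHom
    { toFun := c
      map_one' := inj (by rw [hc, map_one, map_one, map_one])
      map_mul' := fun x y => inj (by rw [hc, map_mul, map_mul, map_mul, hc, hc])
      map_zero' := inj (by rw [hc, map_zero, map_zero, map_zero])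
      map_add' := fun x y => inj (by rw [hc, map_add, map_add, map_add, hc, hc]) }
  have hU := g.W.2.preimage p
  let v := ofGam W'.2 hU ψ
  have hv : ⊤ ≤ v ⁻¹ᵁ (p ⁻¹ᵁ g.W.1) := range_ofGam W'.2 hU ψ
  refine ⟨v, gam_ext W'.2 g.W.2 _ _ hv (fun z _ => h z.2) ?_, ?_⟩
  · rw [gam_comp v p (le_refl (p ⁻¹ᵁ g.W.1)) hv hv, gam_ι (Z := W'.1) φ g.W.1 _ h, gam_ofGam]
    refine CommRingCat.hom_ext (RingHom.ext fun b => inj ?_)
    show P'.presheaf.map _ (c (p.appLE g.W.1 _ le_rfl b)) = _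
    rw [hc, ← Scheme.Hom.app_eq_appLE, sigma_p hs, res_appLE φ inf_le_left inf_le_left h _ b]
  · have hW'' : W'.1 ⊓ φ ⁻¹ᵁ Q ≤ φ ⁻¹ᵁ (g.W.1 ⊓ Q) := fun z hz => ⟨h hz.1, hz.2⟩
    have e : φ.resLE Q (W'.1 ⊓ φ ⁻¹ᵁ Q) inf_le_right ≫ s =
        φ.resLE (g.W.1 ⊓ Q) _ hW'' ≫ P.homOfLE inf_le_right ≫ s := by
      rw [Scheme.Hom.resLE_map_assoc]
    rw [e]
    have hA : IsAffineOpen (W'.1 ⊓ φ ⁻¹ᵁ Q) := by rw [he]; exact W'.2.basicOpen _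
    have hl : ⊤ ≤ (P'.homOfLE (inf_le_left : W'.1 ⊓ φ ⁻¹ᵁ Q ≤ W'.1) ≫ v) ⁻¹ᵁ (p ⁻¹ᵁ g.W.1) := fun z _ => hv trivial
    have hr : ⊤ ≤ (φ.resLE (g.W.1 ⊓ Q) _ hW'' ≫ P.homOfLE inf_le_right ≫ s) ⁻¹ᵁ (p ⁻¹ᵁ g.W.1) :=
      fun z _ => top_le_sigma hs g.W.1 trivial
    refine gam_ext hA hU _ _ hl hr ?_
    rw [gam_res inf_le_left v _ hl hv, gam_ofGam, gam_resLE φ hW'' _ _ hr (top_le_sigma hs g.W.1)]
    exact CommRingCat.hom_ext (RingHom.ext fun a => hc a)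

include hs in
theorem exists_isExt_of_cond (hI : BlowUp.IsEffCartierIdeal I) (hQ : Q = I.support.compl)
    (hC : BlowUp.IsEffCartierIdeal (I.comap φ)) (hcond : ∀ n, Cond I p s φ n) : ∃ f, IsExt p s φ f := by
  choose g hxg _ using fun x : P' => exists_good_le hI ⊤ (φ x) (Opens.mem_top _)
  choose W' hW' hxW' hle using fun x : P' =>
    exists_isAffineOpen_mem_and_subset (X := P') (x := x) (U := φ ⁻¹ᵁ (g x).W.1) (hxg x)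
  choose v hv hvQ using fun x : P' => exists_piece hs hI hQ hC hcond (g x) ⟨W' x, hW' x⟩ (hle x)
  let 𝒰 : P'.OpenCover := P'.openCoverOfIsOpenCover W' (top_le_iff.1 fun x _ => Opens.mem_iSup.2 ⟨x, hxW' x⟩)
  have hcompat : ∀ x y, pullback.fst (𝒰.f x) (𝒰.f y) ≫ v x = pullback.snd _ _ ≫ v y := by
    intro (x : P') (y : P')
    show pullback.fst (W' x).ι (W' y).ι ≫ v x = pullback.snd (W' x).ι (W' y).ι ≫ v y
    let j := pullback.fst (W' x).ι (W' y).ι ≫ (W' x).ι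
    let O := j.opensRange
    let e := j.isoOpensRange
    rw [← cancel_epi e.inv]
    have hOx : O ≤ W' x := by rintro _ ⟨z, rfl⟩; exact (pullback.fst (W' x).ι (W' y).ι z).2
    have hOy : O ≤ W' y := by
      rintro _ ⟨z, rfl⟩
      show (pullback.fst (W' x).ι (W' y).ι ≫ (W' x).ι) z ∈ _
      rw [pullback.condition]
      exact (pullback.snd (W' x).ι (W' y).ι z).2
    have ex : e.inv ≫ pullback.fst (W' x).ι (W' y).ι = P'.homOfLE hOx := by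
      rw [← cancel_mono (W' x).ι, Category.assoc, Scheme.homOfLE_ι]
      exact j.isoOpensRange_inv_comp
    have ey : e.inv ≫ pullback.snd (W' x).ι (W' y).ι = P'.homOfLE hOy := by
      rw [← cancel_mono (W' y).ι, Category.assoc, Scheme.homOfLE_ι, ← pullback.condition]
      exact j.isoOpensRange_inv_comp
    rw [reassoc_of% ex, reassoc_of% ey]
    refine uniq hs φ hI hQ hC _ _ ?_ ?_ ?_
    · rw [Category.assoc, hv x, Scheme.homOfLE_ι_assoc]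
    · rw [Category.assoc, hv y, Scheme.homOfLE_ι_assoc]
    · rw [← Category.assoc, ← Category.assoc, Scheme.homOfLE_homOfLE, Scheme.homOfLE_homOfLE,
        ← P'.homOfLE_homOfLE (inf_le_inf_right _ hOx) inf_le_left,
        ← P'.homOfLE_homOfLE (inf_le_inf_right _ hOy) inf_le_left, Category.assoc, Category.assoc, hvQ x, hvQ y,
        Scheme.Hom.map_resLE_assoc, Scheme.Hom.map_resLE_assoc]
  let f := 𝒰.glueMorphisms v hcompat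
  have hf : ∀ x : P', (W' x).ι ≫ f = v x := fun x => 𝒰.ι_glueMorphisms v hcompat x
  refine ⟨f, Scheme.Cover.hom_ext 𝒰 _ _ fun x => ?_, hom_ext_of_le _ _ fun x hx => ?_⟩
  · show (W' x).ι ≫ f ≫ p = (W' x).ι ≫ φ
    rw [reassoc_of% hf x, hv x]
  · refine ⟨W' x ⊓ φ ⁻¹ᵁ Q, inf_le_right, ⟨hxW' x, hx⟩, ?_⟩
    rw [Scheme.homOfLE_ι_assoc, ← Scheme.homOfLE_ι P' (inf_le_left : W' x ⊓ φ ⁻¹ᵁ Q ≤ W' x), Category.assoc,
      hf x, hvQ x, ← Scheme.Hom.resLE_eq_morphismRestrict, Scheme.Hom.map_resLE_assoc]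

include hs in
theorem exists_isExt_iff (hI : BlowUp.IsEffCartierIdeal I) (hQ : Q = I.support.compl)
    (hC : BlowUp.IsEffCartierIdeal (I.comap φ)) : (∃ f, IsExt p s φ f) ↔ ∀ n, Cond I p s φ n :=
  ⟨fun ⟨_, hf⟩ n => cond_of_isExt hs φ hI hQ hC hf n, exists_isExt_of_cond hs hI hQ hC⟩

end Groth.Agent.CartExt
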