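import Groth.Agent.PicNormLib.Main

/-! Invertible modules descend along a finite map which is an isomorphism off a discrete closed set. -/

set_option autoImplicit false
set_option backward.isDefEq.respectTransparency false
set_option linter.style.haveILetI false

universe u

open CategoryTheory CategoryTheory.Limits AlgebraicGeometry TopologicalSpace Opposite

namespace Groth.Agent.CartExt

open Groth.Agent.AModX Groth.Agent.InvX Groth.Agent.PicNormLib

variable {X Y : Scheme.{u}}

/-- Invertible modules descend along a finite map which is bijective on functions over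
opens missing a closed set all whose subsets are closed. -/
theorem exists_descent (π : Y ⟶ X) [IsFinite π] (B : Set X)
    (hBc : ∀ C ⊆ B, IsClosed C) (hinj : ∀ W : X.Opens, (∀ b ∈ B, b ∉ W) → Function.Injective (π.app W))
    (hsurj : ∀ W : X.Opens, (∀ b ∈ B, b ∉ W) → Function.Surjective (π.app W))
    (N : Y.Modules) (hN : PicF.IsInvertible N) :
    ∃ L : X.Modules, PicF.IsInvertible L ∧ Nonempty ((Scheme.Modules.pullback π).obj L ≅ N) := by
  choose V hxV e₀ he₀ using exists_frame_near_fibre π hN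
  have hcl : ∀ x : X, IsClosed (B \ {x}) := fun x => hBc _ Set.sdiff_subset
  let U : X → X.Opens := fun x => V x ⊓ ⟨(B \ {x})ᶜ, (hcl x).isOpen_compl⟩
  have hxU : ∀ x, x ∈ U x := fun x => ⟨hxV x, fun h => h.2 rfl⟩
  have hsep : ∀ x y, x ≠ y → ∀ b ∈ B, b ∉ U x ⊓ U y := by
    intro x y hxy b hb h
    by_cases hbx : b = x
    · exact h.2.2 ⟨hb, fun e => hxy (hbx.symm.trans e)⟩
    · exact h.1.2 ⟨hb, hbx⟩
  let e : ∀ x, Γ(N, π ⁻¹ᵁ U x) := fun x => res N (π.preimage_mono inf_le_left) (e₀ x)
  have he : ∀ x, IsFrame (e x) := fun x => (he₀ x).res _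
  have hg : ∀ x y, ∃ g : (Γ(X, U x ⊓ U y))ˣ,
      res N (π.preimage_mono inf_le_left) (e x) =
        (show Γ(Y, π ⁻¹ᵁ (U x ⊓ U y)) from π.app (U x ⊓ U y) (g : Γ(X, U x ⊓ U y))) •
          res N (π.preimage_mono inf_le_right) (e y) ∧ (x = y → g = 1) := by
    intro x y
    by_cases hxy : x = y
    · subst hxy
      exact ⟨1, by rw [Units.val_one, map_one, one_smul], fun _ => rfl⟩
    have hb := hsurj _ (hsep x y hxy)
    obtain ⟨a, ha⟩ := (he y).exists_coord (π.preimage_mono (inf_le_right : U x ⊓ U y ≤ U y))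
      (res N (π.preimage_mono inf_le_left) (e x))
    obtain ⟨a', ha'⟩ := (he x).exists_coord (π.preimage_mono (inf_le_left : U x ⊓ U y ≤ U x))
      (res N (π.preimage_mono inf_le_right) (e y))
    obtain ⟨g, rfl⟩ := hb a
    obtain ⟨g', rfl⟩ := hb a'
    have h1 : g * g' = 1 := hinj _ (hsep x y hxy) (by
      rw [map_mul, map_one]
      refine (he x).coord_unique (π.preimage_mono inf_le_left) ?_
      rw [mul_smul, ← ha', ← ha, one_smul])
    exact ⟨⟨g, g', h1, by rw [mul_comm, h1]⟩, ha, fun h => absurd h hxy⟩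
  choose g hg hg1 using hg
  have hrel : ∀ x y (W : X.Opens) (hx : W ≤ U x) (hy : W ≤ U y),
      res N (π.preimage_mono hx) (e x) =
        (show Γ(Y, π ⁻¹ᵁ W) from π.app W (resR (le_inf hx hy) (g x y : Γ(X, U x ⊓ U y)))) •
          res N (π.preimage_mono hy) (e y) := by
    intro x y W hx hy
    have h1 := congrArg (res N (π.preimage_mono (le_inf hx hy))) (hg x y)
    rw [res_smul] at h1
    refine (res_res _ _ (e x)).symm.trans (h1.trans (congrArg₂ (· • ·) ?_ (res_res _ _ (e y))))
    exact (ConcreteCategory.congr_hom (π.naturality (homOfLE (le_inf hx hy)).op) _).symm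
  let t : H23.CocycleMod.Cocycle U :=
    { g := g
      trans := fun x y z W hx hy hz => by
        have key : (∀ b ∈ B, b ∉ W) → resR (le_inf hx hz) (g x z : Γ(X, U x ⊓ U z)) =
            resR (le_inf hy hz) (g y z : Γ(X, U y ⊓ U z)) * resR (le_inf hx hy) (g x y : Γ(X, U x ⊓ U y)) :=
          fun hW => hinj _ hW ((he z).coord_unique (π.preimage_mono hz) (by
            rw [← hrel x z W hx hz, mul_comm, map_mul, mul_smul, ← hrel y z W hy hz, ← hrel x y W hx hy]))
        by_cases hxy : x = y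
        · by_cases hyz : y = z
          · subst hxy hyz
            rw [hg1 x x rfl, Units.val_one, map_one, mul_one]
          · exact key fun b hb h => hsep y z hyz b hb ⟨hy h, hz h⟩
        · exact key fun b hb h => hsep x y hxy b hb ⟨hx h, hy h⟩ }
  have hUtop : iSup U = ⊤ := top_le_iff.1 fun x _ => Opens.mem_iSup.2 ⟨x, hxU x⟩
  refine ⟨H23.CocycleMod.mod t, H23.CocycleMod.isInvertible t hUtop, ?_⟩
  let L' := (Scheme.Modules.pullback π).obj (H23.CocycleMod.mod t)
  let f : ∀ x, Γ(L', π ⁻¹ᵁ U x) := fun x => pullElt π (H23.CocycleMod.frame t x)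
  have hf : ∀ x, IsFrame (f x) := fun x => isFrame_pullElt π (H23.CocycleMod.isFrame_frame t x)
  have hcov : ∀ y : Y, ∃ x, y ∈ π ⁻¹ᵁ U x := fun y => ⟨π y, hxU _⟩
  have hfrel : ∀ x y, res L' (π.preimage_mono inf_le_left) (f x) =
      (show Γ(Y, π ⁻¹ᵁ (U x ⊓ U y)) from π.app (U x ⊓ U y) (g x y : Γ(X, U x ⊓ U y))) •
        res L' (π.preimage_mono inf_le_right) (f y) := by
    intro x y
    refine (pullElt_res π (inf_le_left : U x ⊓ U y ≤ U x) (H23.CocycleMod.frame t x)).trans ?_
    refine Eq.trans ?_ (congrArg (_ • ·) (pullElt_res π (inf_le_right : U x ⊓ U y ≤ U y) (H23.CocycleMod.frame t y))).symm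
    rw [← pullElt_smul, H23.CocycleMod.res_frame]
  have hc : ∀ (M M' : Y.Modules) (a : ∀ x, Γ(M, π ⁻¹ᵁ U x)) (b : ∀ x, Γ(M', π ⁻¹ᵁ U x)),
      (∀ x, IsFrame (a x)) →
      (∀ x y, res M (π.preimage_mono inf_le_left) (a x) =
        (show Γ(Y, π ⁻¹ᵁ (U x ⊓ U y)) from π.app (U x ⊓ U y) (g x y : Γ(X, U x ⊓ U y))) •
          res M (π.preimage_mono inf_le_right) (a y)) →
      (∀ x y, res M' (π.preimage_mono inf_le_left) (b x) =
        (show Γ(Y, π ⁻¹ᵁ (U x ⊓ U y)) from π.app (U x ⊓ U y) (g x y : Γ(X, U x ⊓ U y))) •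
          res M' (π.preimage_mono inf_le_right) (b y)) →
      ∀ (x y : X) (W : Y.Opens) (hx : W ≤ π ⁻¹ᵁ U x) (hy : W ≤ π ⁻¹ᵁ U y) (c : Γ(Y, W)),
        res M hy (a y) = c • res M hx (a x) → res M' hy (b y) = c • res M' hx (b x) := by
    intro M M' a b ha h1 h2 x y W hx hy c hc
    have hW : W ≤ π ⁻¹ᵁ (U y ⊓ U x) := le_inf hy hx
    have k1 := congrArg (res M hW) (h1 y x)
    have k2 := congrArg (res M' hW) (h2 y x)
    rw [res_smul, res_res, res_res] at k1 k2
    rw [k2]
    exact congrArg (· • _) ((ha x).coord_unique hx (k1.symm.trans hc))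
  refine ⟨{ hom := ofFrames hcov hf (n := e) (hc L' N f e hf hfrel hg)
            inv := ofFrames hcov he (n := f) (hc N L' e f he hg hfrel)
            hom_inv_id := ?_
            inv_hom_id := ?_ }⟩
  · refine hom_ext_of_frames _ hcov f hf fun x => ?_
    rw [Scheme.Modules.Hom.id_app, Scheme.Modules.Hom.comp_app, ConcreteCategory.comp_apply, ofFrames_app, ofFrames_app]
    rfl
  · refine hom_ext_of_frames _ hcov e he fun x => ?_
    rw [Scheme.Modules.Hom.id_app, Scheme.Modules.Hom.comp_app, ConcreteCategory.comp_apply, ofFrames_app, ofFrames_app]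
    rfl

/-- Invertible modules descend along a finite map which is an isomorphism off a closed discrete set. -/
theorem exists_descent_of_discrete (f : X ⟶ Y) [IsFinite f] (V : Y.Opens) (hV : IsIso (f ∣_ V))
    (hdisc : DiscreteTopology ((V : Set Y)ᶜ : Set Y)) (L : X.Modules) (hL : PicF.IsInvertible L) :
    ∃ N : Y.Modules, PicF.IsInvertible N ∧ Nonempty ((Scheme.Modules.pullback f).obj N ≅ L) := by
  have hbij : ∀ W : Y.Opens, (∀ b ∈ (V : Set Y)ᶜ, b ∉ W) → Function.Bijective (f.app W) := fun W hW => by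
    haveI := hV
    haveI := BMLib.isIso_restrict_of_le f (W := W) (U := V) fun x hx => not_not.1 fun h => hW x h hx
    exact app_bijective_of_isIso_restrict f W
  refine exists_descent f ((V : Set Y)ᶜ) (fun C hC => ?_) (fun W hW => (hbij W hW).1) (fun W hW => (hbij W hW).2) L hL
  have h := V.isOpen.isClosed_compl.isClosedEmbedding_subtypeVal.isClosedMap (Subtype.val ⁻¹' C)
    (isClosed_discrete _)
  rwa [Subtype.image_preimage_coe, Set.inter_eq_right.2 hC] at h

end Groth.Agent.CartExt
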