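import Mathlib

/-!
# Morphisms from opens into affine opens, by their maps on sections
-/

set_option autoImplicit false
universe u

open CategoryTheory CategoryTheory.Limits AlgebraicGeometry TopologicalSpace Opposite

namespace Groth.Agent.CartExt

variable {X Y : Scheme.{u}}

/-- The map on sections of a morphism from an open subscheme. -/
noncomputable def gam {Z : X.Opens} (u : (Z : Scheme.{u}) ⟶ Y) (U : Y.Opens) (h : ⊤ ≤ u ⁻¹ᵁ U) :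
    Γ(Y, U) ⟶ Γ(X, Z) :=
  u.appLE U ⊤ h ≫ Z.topIso.hom

theorem gam_congr {Z : X.Opens} {u v : (Z : Scheme.{u}) ⟶ Y} (e : u = v) (U : Y.Opens) (h : ⊤ ≤ u ⁻¹ᵁ U) :
    gam u U h = gam v U (e ▸ h) := by
  subst e; rfl

theorem gam_comp {W : Scheme.{u}} {Z : X.Opens} (u : (Z : Scheme.{u}) ⟶ Y) (w : Y ⟶ W) {U : Y.Opens}
    {U₀ : W.Opens} (e : U ≤ w ⁻¹ᵁ U₀) (h : ⊤ ≤ u ⁻¹ᵁ U) (h' : ⊤ ≤ (u ≫ w) ⁻¹ᵁ U₀) :
    gam (u ≫ w) U₀ h' = w.appLE U₀ U e ≫ gam u U h := by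
  rw [gam, gam, Scheme.Hom.appLE_comp_appLE_assoc]

theorem gam_ι {Z : X.Opens} (f : X ⟶ Y) (U : Y.Opens) (h : ⊤ ≤ (Z.ι ≫ f) ⁻¹ᵁ U) (h' : Z ≤ f ⁻¹ᵁ U) :
    gam (Z.ι ≫ f) U h = f.appLE U Z h' := by
  rw [gam_comp Z.ι f (le_rfl : f ⁻¹ᵁ U ≤ _) h h, gam, Scheme.Opens.ι_appLE]
  simp only [Scheme.Opens.topIso_hom, Scheme.Hom.appLE, homOfLE_leOfHom, Category.assoc]
  congr 1
  erw [← Functor.map_comp, ← Functor.map_comp]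
  rfl

theorem gam_resLE {X' : Scheme.{u}} (φ : X' ⟶ X) {O : X.Opens} {Z : X'.Opens} (e : Z ≤ φ ⁻¹ᵁ O)
    (v : (O : Scheme.{u}) ⟶ Y) (U : Y.Opens) (h : ⊤ ≤ (φ.resLE O Z e ≫ v) ⁻¹ᵁ U) (hv : ⊤ ≤ v ⁻¹ᵁ U) :
    gam (φ.resLE O Z e ≫ v) U h = gam v U hv ≫ φ.appLE O Z e := by
  rw [gam_comp _ v hv le_top h, gam, gam, Category.assoc]
  congr 1
  have h0 : (φ.resLE O Z e).appLE ⊤ ⊤ le_top = (φ.resLE O Z e).app ⊤ :=
    (Scheme.Hom.app_eq_appLE _).symm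
  rw [h0, Scheme.Hom.resLE_app_top, Category.assoc, Category.assoc, Iso.inv_hom_id, Category.comp_id]

theorem gam_res {Z Z' : X.Opens} (i : Z' ≤ Z) (v : (Z : Scheme.{u}) ⟶ Y) (U : Y.Opens)
    (h : ⊤ ≤ (X.homOfLE i ≫ v) ⁻¹ᵁ U) (hv : ⊤ ≤ v ⁻¹ᵁ U) :
    gam (X.homOfLE i ≫ v) U h = gam v U hv ≫ X.presheaf.map (homOfLE i).op := by
  have h1 : X.homOfLE i = (𝟙 X : X ⟶ X).resLE Z Z' i := (Scheme.Hom.resLE_id i).symm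
  have key := gam_resLE (𝟙 X) (O := Z) (Z := Z') i v U (by rw [← h1]; exact h) hv
  rw [gam_congr (congrArg (· ≫ v) h1) U h, key]
  simp [Scheme.Hom.appLE]
  erw [Category.id_comp]
  rfl

/-- The morphism from an affine open with given map on sections. -/
noncomputable def ofGam {Z : X.Opens} (hZ : IsAffineOpen Z) {U : Y.Opens} (hU : IsAffineOpen U)
    (ψ : Γ(Y, U) ⟶ Γ(X, Z)) : (Z : Scheme.{u}) ⟶ Y :=
  hZ.isoSpec.hom ≫ Spec.map ψ ≫ hU.fromSpec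

theorem eq_ofGam {Z : X.Opens} (hZ : IsAffineOpen Z) {U : Y.Opens} (hU : IsAffineOpen U)
    (u : (Z : Scheme.{u}) ⟶ Y) (h : ⊤ ≤ u ⁻¹ᵁ U) : u = ofGam hZ hU (gam u U h) := by
  haveI : IsAffine (Z : Scheme.{u}) := hZ
  rw [ofGam, gam, Spec.map_comp, Category.assoc,
    IsAffineOpen.SpecMap_appLE_fromSpec u hU (isAffineOpen_top _) h, IsAffineOpen.fromSpec_top]
  rw [IsAffineOpen.isoSpec, Iso.trans_hom, Category.assoc, ← Category.assoc _ (Spec.map Z.topIso.hom)]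
  rw [Functor.mapIso_hom, Iso.op_hom, Scheme.Spec_map, Quiver.Hom.unop_op, ← Spec.map_comp, Iso.symm_hom]
  rw [Iso.hom_inv_id, Spec.map_id, Category.id_comp, Iso.hom_inv_id_assoc]

theorem range_ofGam {Z : X.Opens} (hZ : IsAffineOpen Z) {U : Y.Opens} (hU : IsAffineOpen U)
    (ψ : Γ(Y, U) ⟶ Γ(X, Z)) : ⊤ ≤ ofGam hZ hU ψ ⁻¹ᵁ U := fun x _ => by
  show hU.fromSpec (Spec.map ψ (hZ.isoSpec.hom x)) ∈ U
  exact (SetLike.mem_coe).1 (hU.range_fromSpec ▸ Set.mem_range_self _)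

theorem gam_ofGam {Z : X.Opens} (hZ : IsAffineOpen Z) {U : Y.Opens} (hU : IsAffineOpen U)
    (ψ : Γ(Y, U) ⟶ Γ(X, Z)) : gam (ofGam hZ hU ψ) U (range_ofGam hZ hU ψ) = ψ := by
  have h := eq_ofGam hZ hU (ofGam hZ hU ψ) (range_ofGam hZ hU ψ)
  unfold ofGam at h
  rw [cancel_epi, cancel_mono] at h
  exact (Spec.map_injective h).symm

theorem gam_ext {Z : X.Opens} (hZ : IsAffineOpen Z) {U : Y.Opens} (hU : IsAffineOpen U)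
    (u v : (Z : Scheme.{u}) ⟶ Y) (hu : ⊤ ≤ u ⁻¹ᵁ U) (hv : ⊤ ≤ v ⁻¹ᵁ U) (h : gam u U hu = gam v U hv) :
    u = v := by
  rw [eq_ofGam hZ hU u hu, eq_ofGam hZ hU v hv, h]

/-- Morphisms from an open subscheme agree if they agree locally. -/
theorem hom_ext_of_le {O : X.Opens} (u v : (O : Scheme.{u}) ⟶ Y)
    (h : ∀ x ∈ O, ∃ (Z : X.Opens) (i : Z ≤ O), x ∈ Z ∧ X.homOfLE i ≫ u = X.homOfLE i ≫ v) : u = v := by
  choose Z i hx hZ using h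
  refine Scheme.Cover.hom_ext (O.toScheme.openCoverOfIsOpenCover (fun x : O => O.ι ⁻¹ᵁ Z x.1 x.2) ?_) _ _
    fun x => ?_
  · refine top_le_iff.1 fun y _ => Opens.mem_iSup.2 ⟨y, hx y.1 y.2⟩
  · have hle : O.ι ''ᵁ (O.ι ⁻¹ᵁ Z x.1 x.2) ≤ Z x.1 x.2 := by
      rintro _ ⟨y, hy, rfl⟩; exact hy
    let j : ((O.ι ⁻¹ᵁ Z x.1 x.2 : O.toScheme.Opens) : Scheme.{u}) ⟶ (Z x.1 x.2 : Scheme.{u}) :=
      IsOpenImmersion.lift (Z x.1 x.2).ι ((O.ι ⁻¹ᵁ Z x.1 x.2).ι ≫ O.ι) (by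
        rintro _ ⟨y, rfl⟩
        exact ⟨⟨_, y.2⟩, rfl⟩)
    have hj : (O.ι ⁻¹ᵁ Z x.1 x.2).ι = j ≫ X.homOfLE (i x.1 x.2) := by
      rw [← cancel_mono O.ι, Category.assoc, Scheme.homOfLE_ι]
      exact (IsOpenImmersion.lift_fac _ _ _).symm
    show (O.ι ⁻¹ᵁ Z x.1 x.2).ι ≫ u = (O.ι ⁻¹ᵁ Z x.1 x.2).ι ≫ v
    rw [hj, Category.assoc, Category.assoc, hZ]

end Groth.Agent.CartExt
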